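import Cfsg.Agent.Lib.CoprimeAbelian

/-!
# The norm map of an odd action on an elementary abelian 2-group

`Z` elementary abelian, `X ≤ N_G(Z)` with `|X : C_X(Z)|` odd: there is a homomorphism `N : Z → C_Z(X)` with
`N (z^x) = N z`, `N z = z` for `z ∈ C_Z(X)`, and `N z ≡ z mod W` if `X` centralises `Z / W`.
-/

set_option autoImplicit false

namespace Cfsg.Agent.Omega.NOThreeL.RA

open Subgroup Cfsg.Agent.Lib.CoprimeAbelian

universe u

variable {G : Type u} [Group G]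

theorem pow_odd_eq {A : Type*} [Monoid A] {z : A} (h : z * z = 1) {n : ℕ} (hn : ¬ 2 ∣ n) : z ^ n = z := by
  obtain ⟨k, hk⟩ : Odd n := Nat.not_even_iff_odd.mp fun h => hn h.two_dvd
  rw [hk, pow_succ, pow_mul, pow_two, h, one_pow, one_mul]

theorem odd_norm [Finite G] {Z X : Subgroup G} (hZ : ∀ x ∈ Z, ∀ y ∈ Z, x * y = y * x) (hsq : ∀ x ∈ Z, x * x = 1)
    (hX : X ≤ normalizer (Z : Set G)) (hodd : ¬ 2 ∣ (centralizer (Z : Set G)).relIndex X) :
    ∃ N : G → G, (∀ z ∈ Z, N z ∈ Z) ∧ (∀ z ∈ Z, ∀ w ∈ Z, N (z * w) = N z * N w) ∧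
      (∀ x ∈ X, ∀ z ∈ Z, N (x * z * x⁻¹) = N z) ∧ (∀ x ∈ X, ∀ z ∈ Z, x * N z * x⁻¹ = N z) ∧
      (∀ z ∈ Z, (∀ x ∈ X, x * z * x⁻¹ = z) → N z = z) ∧
      ∀ W : Subgroup G, (∀ x ∈ X, ∀ z ∈ Z, x * z * x⁻¹ * z⁻¹ ∈ W) → ∀ z ∈ Z, N z * z ∈ W := by
  classical
  let : CommGroup Z := { (inferInstance : Group Z) with
    mul_comm := fun x y => Subtype.ext (hZ x x.2 y y.2) }
  let φ : X →* MulAut Z := (Subgroup.normalizerMonoidHom Z).comp (Subgroup.inclusion hX)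
  have hφ : ∀ (a : X) (v : Z), ((φ a v : Z) : G) = a * v * (a : G)⁻¹ := fun a v => rfl
  let A : Subgroup (MulAut Z) := φ.range
  have : Finite A := inferInstance
  have := Fintype.ofFinite A
  have hcard : ¬ 2 ∣ Fintype.card A := by
    rw [← Nat.card_eq_fintype_card]
    change ¬ 2 ∣ Nat.card φ.range
    rw [← index_ker]
    have hker : φ.ker = (centralizer (Z : Set G)).subgroupOf X := by
      ext x
      rw [MonoidHom.mem_ker, mem_subgroupOf, mem_centralizer_iff]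
      constructor
      · intro h z hz
        have h1 : φ x ⟨z, hz⟩ = ⟨z, hz⟩ := by rw [h]; rfl
        have h2 := congrArg Subtype.val h1
        rw [hφ] at h2
        change (x : G) * z * (x : G)⁻¹ = z at h2
        calc z * x = x * z * (x : G)⁻¹ * x := by rw [h2]
          _ = x * z := by group
      · intro h
        ext z
        rw [hφ]
        have h1 := h z z.2
        change (x : G) * z * (x : G)⁻¹ = z
        rw [← h1, mul_inv_cancel_right]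
    rw [hker]
    exact hodd
  have hzsq : ∀ z : Z, z * z = 1 := fun z => Subtype.ext (hsq z z.2)
  obtain ⟨N, hN⟩ : ∃ N : G → G, ∀ z (h : z ∈ Z), N z = ((norm A.subtype ⟨z, h⟩ : Z) : G) :=
    ⟨fun z => if h : z ∈ Z then ((norm A.subtype ⟨z, h⟩ : Z) : G) else 1, fun z h => dif_pos h⟩
  refine ⟨N, ?_, ?_, ?_, ?_, ?_, ?_⟩
  · intro z hz
    rw [hN z hz]
    exact (norm A.subtype ⟨z, hz⟩).2
  · intro z hz w hw
    rw [hN z hz, hN w hw, hN _ (mul_mem hz hw)]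
    have h1 : (⟨z * w, mul_mem hz hw⟩ : Z) = ⟨z, hz⟩ * ⟨w, hw⟩ := rfl
    rw [h1, map_mul]
    rfl
  · intro x hx z hz
    have h1 : x * z * x⁻¹ ∈ Z := (mem_normalizer_iff.mp (hX hx) z).mp hz
    rw [hN z hz, hN _ h1]
    have h2 : (⟨x * z * x⁻¹, h1⟩ : Z) = A.subtype ⟨φ ⟨x, hx⟩, ⟨x, hx⟩, rfl⟩ ⟨z, hz⟩ := rfl
    rw [h2, norm_act]
  · intro x hx z hz
    rw [hN z hz]
    have h2 := norm_fixed A.subtype ⟨z, hz⟩ ⟨φ ⟨x, hx⟩, ⟨x, hx⟩, rfl⟩
    exact congrArg Subtype.val h2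
  · intro z hz h
    rw [hN z hz, norm_of_fixed A.subtype ⟨z, hz⟩, pow_odd_eq (hzsq _) hcard]
    rintro ⟨_, ⟨x, rfl⟩⟩
    exact Subtype.ext (h x x.2)
  · intro W h z hz
    rw [hN z hz]
    have h1 : norm A.subtype ⟨z, hz⟩ * ⟨z, hz⟩ = ∏ a : A, (A.subtype a ⟨z, hz⟩ * ⟨z, hz⟩) := by
      rw [Finset.prod_mul_distrib, Finset.prod_const, Finset.card_univ, pow_odd_eq (hzsq _) hcard, norm_apply]
    have h2 : (∏ a : A, (A.subtype a ⟨z, hz⟩ * ⟨z, hz⟩) : Z) ∈ W.subgroupOf Z := by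
      refine Subgroup.prod_mem _ fun a _ => ?_
      obtain ⟨_, ⟨x, rfl⟩⟩ := a
      rw [mem_subgroupOf]
      have h3 := h x x.2 z hz
      have h4 : z⁻¹ = z := inv_eq_of_mul_eq_one_left (hsq z hz)
      rw [h4] at h3
      exact h3
    rw [← h1] at h2
    exact h2

end Cfsg.Agent.Omega.NOThreeL.RA
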