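import Mathlib

/-!
# The module `U / R` of a group `H` normalising the abelian group `U` and `R ≤ U`

`Md U R H ρ π` : `M` is the additive group `U / R` (`π : G → M` the projection, used on `U`), `ρ : H → Γ` the action by
conjugation, `Γ` acts faithfully on `M`.

* `exists_md` : existence.
* `img π A` : the image of `A ≤ U`.
-/

set_option autoImplicit false

namespace Cfsg.Agent.Omega.NOThreeL.RA

open Subgroup

universe u

variable {G : Type u} [Group G]

/-- `M = U / R`, `H` acts on it through `ρ`. -/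
structure Md (U R H : Subgroup G) {M Γ : Type*} [AddCommGroup M] [Group Γ] [DistribMulAction Γ M] (ρ : ↥H →* Γ)
    (π : G → M) : Prop where
  le : R ≤ U
  hU : ∀ g ∈ H, ∀ x ∈ U, g * x * g⁻¹ ∈ U
  mul : ∀ x ∈ U, ∀ y ∈ U, π (x * y) = π x + π y
  ker : ∀ x ∈ U, π x = 0 ↔ x ∈ R
  surj : ∀ m, ∃ x ∈ U, π x = m
  act : ∀ g : ↥H, ∀ x ∈ U, ρ g • π x = π ((g : G) * x * (g : G)⁻¹)
  faith : ∀ γ : Γ, (∀ m : M, γ • m = m) → γ = 1

theorem exists_md {U R H : Subgroup G} (hRU : R ≤ U) (hab : ∀ x ∈ U, ∀ y ∈ U, x * y = y * x)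
    (hHU : ∀ g ∈ H, ∀ x ∈ U, g * x * g⁻¹ ∈ U) (hHR : ∀ g ∈ H, ∀ x ∈ R, g * x * g⁻¹ ∈ R) :
    ∃ (M : Type u) (_ : AddCommGroup M) (Γ : Type u) (_ : Group Γ) (_ : DistribMulAction Γ M) (ρ : ↥H →* Γ)
      (π : G → M), Md U R H ρ π := by
  classical
  have hn : (R.subgroupOf U).Normal := by
    refine ⟨fun n hn g => ?_⟩
    rw [mem_subgroupOf] at hn ⊢
    have h2 : ((g * n * g⁻¹ : U) : G) = n := by
      change (g : G) * n * (g : G)⁻¹ = n
      rw [hab g g.2 n n.2, mul_inv_cancel_right]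
    rw [h2]
    exact hn
  let Qt : Type u := ↥U ⧸ R.subgroupOf U
  let pr : ↥U →* Qt := QuotientGroup.mk' _
  have prs : Function.Surjective pr := QuotientGroup.mk'_surjective _
  let iC : CommGroup Qt :=
    { (inferInstance : Group Qt) with
      mul_comm := by
        intro x y
        obtain ⟨x, rfl⟩ := prs x
        obtain ⟨y, rfl⟩ := prs y
        have h1 : x * y = y * x := Subtype.ext (hab x x.2 y y.2)
        change pr x * pr y = pr y * pr x
        rw [← map_mul, ← map_mul, h1] }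
  let M : Type u := Additive Qt
  let cj : ↥H → (↥U →* ↥U) := fun g =>
    { toFun := fun x => ⟨g * x * (g : G)⁻¹, hHU g g.2 x x.2⟩
      map_one' := by ext; simp
      map_mul' := by intro x y; ext; simp }
  have cjN : ∀ g, R.subgroupOf U ≤ (R.subgroupOf U).comap (cj g) := by
    intro g x hx
    rw [mem_comap, mem_subgroupOf]
    rw [mem_subgroupOf] at hx
    exact hHR g g.2 _ hx
  let cq : ↥H → (Qt →* Qt) := fun g => QuotientGroup.map _ _ (cj g) (cjN g)
  let ρ₀ : ↥H →* AddMonoid.End M :=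
    { toFun := fun g => MonoidHom.toAdditive (cq g)
      map_one' := by
        ext x
        obtain ⟨x, rfl⟩ := Additive.ofMul.surjective x
        obtain ⟨x, rfl⟩ := prs x
        change Additive.ofMul (pr (cj 1 x)) = Additive.ofMul (pr x)
        congr 2
        ext
        change (1 : G) * x * (1 : G)⁻¹ = x
        group
      map_mul' := by
        intro g g'
        ext x
        obtain ⟨x, rfl⟩ := Additive.ofMul.surjective x
        obtain ⟨x, rfl⟩ := prs x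
        change Additive.ofMul (pr (cj (g * g') x)) = Additive.ofMul (pr (cj g (cj g' x)))
        congr 2
        ext
        change ((g : G) * g') * x * ((g : G) * g')⁻¹ = g * (g' * x * (g' : G)⁻¹) * (g : G)⁻¹
        group }
  refine ⟨M, inferInstance, (AddMonoid.End M)ˣ, inferInstance, inferInstance, ρ₀.toHomUnits,
    fun x => if hx : x ∈ U then Additive.ofMul (pr ⟨x, hx⟩) else 0, ⟨hRU, hHU, ?_, ?_, ?_, ?_, ?_⟩⟩
  · intro x hx y hy
    rw [dif_pos hx, dif_pos hy, dif_pos (mul_mem hx hy)]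
    rfl
  · intro x hx
    rw [dif_pos hx]
    change Additive.ofMul (pr ⟨x, hx⟩) = Additive.ofMul 1 ↔ _
    rw [Additive.ofMul.injective.eq_iff]
    change ((⟨x, hx⟩ : ↥U) : Qt) = 1 ↔ _
    rw [QuotientGroup.eq_one_iff, mem_subgroupOf]
  · intro m
    obtain ⟨x, rfl⟩ := Additive.ofMul.surjective m
    obtain ⟨x, rfl⟩ := prs x
    exact ⟨x, x.2, by rw [dif_pos x.2]⟩
  · intro g x hx
    rw [dif_pos hx, dif_pos (hHU g g.2 x hx)]
    rfl
  · intro γ h
    ext m
    exact h m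

section

variable {U R H : Subgroup G} {M Γ : Type*} [AddCommGroup M] [Group Γ] [DistribMulAction Γ M] {ρ : ↥H →* Γ} {π : G → M}

/-- the image of `A ≤ U` in `M` -/
def img (π : G → M) (A : Subgroup G) : AddSubgroup M := AddSubgroup.closure (π '' (A : Set G))

namespace Md

variable (Q : Md U R H ρ π)
include Q

theorem one : π 1 = 0 := (Q.ker 1 (one_mem U)).2 (one_mem R)

theorem neg {x : G} (hx : x ∈ U) : π x⁻¹ = - π x := by
  have h := Q.mul _ (inv_mem hx) _ hx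
  rw [inv_mul_cancel, Q.one] at h
  exact eq_neg_of_add_eq_zero_left h.symm

theorem eq_iff {x y : G} (hx : x ∈ U) (hy : y ∈ U) : π x = π y ↔ x * y⁻¹ ∈ R := by
  rw [← Q.ker _ (mul_mem hx (inv_mem hy)), Q.mul _ hx _ (inv_mem hy), Q.neg hy, ← sub_eq_add_neg, sub_eq_zero]

theorem mul_R {x r : G} (hx : x ∈ U) (hr : r ∈ R) : π (x * r) = π x := by
  rw [Q.mul x hx r (Q.le hr), (Q.ker r (Q.le hr)).2 hr, add_zero]

theorem mem_img {A : Subgroup G} (hA : A ≤ U) {m : M} : m ∈ img π A ↔ ∃ a ∈ A, π a = m := by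
  constructor
  · intro h
    refine AddSubgroup.closure_induction (fun x hx => ?_) ⟨1, one_mem _, Q.one⟩ (fun x y _ _ hx hy => ?_)
      (fun x _ hx => ?_) h
    · obtain ⟨a, ha, rfl⟩ := hx
      exact ⟨a, ha, rfl⟩
    · obtain ⟨a, ha, rfl⟩ := hx
      obtain ⟨b, hb, rfl⟩ := hy
      exact ⟨a * b, mul_mem ha hb, Q.mul a (hA ha) b (hA hb)⟩
    · obtain ⟨a, ha, rfl⟩ := hx
      exact ⟨a⁻¹, inv_mem ha, Q.neg (hA ha)⟩
  · rintro ⟨a, ha, rfl⟩
    exact AddSubgroup.subset_closure ⟨a, ha, rfl⟩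

omit Q in
theorem pi_mem {A : Subgroup G} {a : G} (ha : a ∈ A) : π a ∈ img π A := AddSubgroup.subset_closure ⟨a, ha, rfl⟩

/-- `π x ∈ img A` iff `x ∈ A R`. -/
theorem pi_mem_iff {A : Subgroup G} (hA : A ≤ U) {x : G} (hx : x ∈ U) :
    π x ∈ img π A ↔ ∃ a ∈ A, ∃ r ∈ R, x = r * a := by
  rw [Q.mem_img hA]
  constructor
  · rintro ⟨a, ha, h⟩
    have h1 := (Q.eq_iff hx (hA ha)).1 h.symm
    exact ⟨a, ha, _, h1, by group⟩
  · rintro ⟨a, ha, r, hr, rfl⟩
    refine ⟨a, ha, ?_⟩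
    rw [Q.mul r (Q.le hr) a (hA ha), (Q.ker r (Q.le hr)).2 hr, zero_add]

/-- the action on a class -/
theorem smul {g : G} (hg : g ∈ H) {x : G} (hx : x ∈ U) : ρ ⟨g, hg⟩ • π x = π (g * x * g⁻¹) := Q.act ⟨g, hg⟩ x hx

theorem smul_eq_self {g : G} (hg : g ∈ H) {x : G} (hx : x ∈ U) :
    ρ ⟨g, hg⟩ • π x = π x ↔ g * x * g⁻¹ * x⁻¹ ∈ R := by
  rw [Q.smul hg hx, Q.eq_iff (Q.hU g hg x hx) hx]

theorem rho_eq_one {g : G} (hg : g ∈ H) : ρ ⟨g, hg⟩ = 1 ↔ ∀ x ∈ U, g * x * g⁻¹ * x⁻¹ ∈ R := by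
  constructor
  · intro h x hx
    rw [← Q.smul_eq_self hg hx, h, one_smul]
  · intro h
    refine Q.faith _ fun m => ?_
    obtain ⟨x, hx, rfl⟩ := Q.surj m
    exact (Q.smul_eq_self hg hx).2 (h x hx)

end Md

end

end Cfsg.Agent.Omega.NOThreeL.RA
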