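import Cfsg.Agent.Omega.NOThreeL.RTransvPlug

/-!
# NO-3L, R ∩ (A), `k = 1`, `q > 2` (#19087, helper162 / helper761): (7) END

`V = zl S P`, `U = zl S H`, `C = CZ S`, `E = C_Z(P)`, `F = C_Z(H)`.

* `QP S P H` : (Q): every abelian normal subgroup `B ≤ O₂(C)` of `C` acts on `U` as a subgroup of `V`;
* `Sit S P H R` : the facts used: `H = ⟨C, P₁ : P₁ ≤ H⟩`, `[U, V] ≤ Z ≤ [U, V] R`, `Z = F E`, and
  `V = E [V, U]`-type facts on `V / E`;
* `Sit.false` : contradiction.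
-/

set_option autoImplicit false

namespace Cfsg.Agent.Omega.NOThreeL.RA.End

open Subgroup Cfsg Cfsg.Agent.ZN Cfsg.Agent.Omega.MinPar Cfsg.Agent.Omega.Frame Cfsg.Agent.Omega.FrameNOFF
open Cfsg.Agent.Omega.Node.NO3L Cfsg.Agent.Omega.NOThreeL.Basic
open Cfsg.Agent.Omega.NoFF.Basic (V conj_conj mem_conj conj_le_iff conj_le_centralizer comm_symm comm_mono
  Z_le_V V_le conj_V_mul)
open Cfsg.Agent.Omega.NOThreeL.Pair (conj_eq_of_mem conj_le_normalizer zl_abel)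
open Cfsg.Agent.MinSimple.VModule (zl_le le_normalizer_zl zc_le_zl zc_le zl_le_zc mem_zc
  normalizer_le_normalizer_zc o2_isPGroup le_normalizer_o2 le_o2 o2_le)
open scoped Pointwise commutatorElement

universe u

variable {G : Type u} [Group G]

/-- **(Q)** of #19087 (6): every abelian normal subgroup of `C` in `O₂(C)` acts on `U_H` as a subgroup of `V_P`. -/
def QP (S P H : Subgroup G) : Prop :=
  ∀ B : Subgroup G, B ≤ o2 (CZ S) → CZ S ≤ normalizer (B : Set G) → B ≤ centralizer (B : Set G) →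
    B ≤ zl S P ⊔ centralizer (zl S H : Set G)

/-- The facts used in (7); `R = C_U(⟨V^H⟩)`. -/
structure Sit (S P H R : Subgroup G) : Prop where
  par : IsParS S P
  long : IsLong S H
  ne : ¬ zl S H ≤ centralizer (zl S P : Set G)
  gen : ∀ X : Subgroup G, CZ S ≤ X → (∀ P', IsParS S P' → P' ≤ H → P' ≤ X) → H ≤ X
  RV : R ≤ centralizer (zl S P : Set G)
  HR : H ≤ normalizer (R : Set G)
  /-- `[U, V] ≤ Z` -/
  UV : ∀ u ∈ zl S H, ∀ v ∈ zl S P, u * v * u⁻¹ * v⁻¹ ∈ zc S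
  /-- `Z ≤ [U, V] R` -/
  ZR : zc S ≤ ⁅zl S H, zl S P⁆ ⊔ R
  /-- `[v, U] E = Z` for `v ∉ Z` -/
  full : ∀ v ∈ zl S P, v ∉ zc S → ∀ z ∈ zc S, ∃ u ∈ zl S H,
    u * v * u⁻¹ * v⁻¹ * z⁻¹ ∈ zc S ⊓ centralizer (P : Set G)
  /-- `Z = F E` -/
  FE : zc S ≤ (zc S ⊓ centralizer (H : Set G)) ⊔ (zc S ⊓ centralizer (P : Set G))
  /-- `V = Z Z^r`, `Z ∩ Z^r = E` -/
  rho : ∃ r ∈ P, zl S P ≤ zc S ⊔ MulAut.conj r • zc S ∧
    zc S ⊓ MulAut.conj r • zc S ≤ centralizer (P : Set G)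

theorem zl_mono {S H K : Subgroup G} (h : H ≤ K) : zl S H ≤ zl S K :=
  zl_le (zc_le_zl _ _) (h.trans (le_normalizer_zl _ _))

theorem zl_le_of_cent {S X : Subgroup G} (h : zc S ≤ centralizer (X : Set G)) : zl S X ≤ zc S := by
  refine zl_le le_rfl fun g hg => ?_
  rw [mem_normalizer_iff]
  have key : ∀ z ∈ zc S, g * z * g⁻¹ = z ∧ g⁻¹ * z * g = z := fun z hz => by
    have h1 := mem_centralizer_iff.1 (h hz) g hg
    exact ⟨by rw [h1, mul_inv_cancel_right], by rw [mul_assoc, ← h1, inv_mul_cancel_left]⟩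
  intro x
  constructor
  · intro hx
    rwa [(key x hx).1]
  · intro hx
    have h1 := (key _ hx).2
    have h2 : g⁻¹ * (g * x * g⁻¹) * g = x := by group
    rw [h2] at h1
    rwa [← h1] at hx

theorem exists_mul_of_mem_sup {A B : Subgroup G} (h : A ≤ normalizer (B : Set G)) {x : G} (hx : x ∈ A ⊔ B) :
    ∃ a ∈ A, ∃ b ∈ B, x = a * b := by
  rw [sup_eq_closure] at hx
  refine closure_induction (fun y hy => ?_) ?_ (fun y z _ _ hy hz => ?_) (fun y _ hy => ?_) hx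
  · rcases hy with hy | hy
    · exact ⟨y, hy, 1, B.one_mem, (mul_one y).symm⟩
    · exact ⟨1, A.one_mem, y, hy, (one_mul y).symm⟩
  · exact ⟨1, A.one_mem, 1, B.one_mem, (mul_one 1).symm⟩
  · obtain ⟨a, ha, b, hb, rfl⟩ := hy
    obtain ⟨a', ha', b', hb', rfl⟩ := hz
    refine ⟨a * a', A.mul_mem ha ha', a'⁻¹ * b * a' * b', B.mul_mem ?_ hb', by group⟩
    have := (mem_normalizer_iff.1 (h (A.inv_mem ha')) b).1 hb
    rwa [inv_inv] at this
  · obtain ⟨a, ha, b, hb, rfl⟩ := hy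
    refine ⟨a⁻¹, A.inv_mem ha, a * b⁻¹ * a⁻¹, ?_, by group⟩
    exact (mem_normalizer_iff.1 (h ha) b⁻¹).1 (B.inv_mem hb)

theorem le_normalizer_centralizer {A B : Subgroup G} (h : A ≤ normalizer (B : Set G)) :
    A ≤ normalizer (centralizer (B : Set G) : Set G) := by
  intro a ha
  refine RTransv.mem_normalizer_of_conj ?_
  have key : ∀ a ∈ A, MulAut.conj a • centralizer (B : Set G) ≤ centralizer (B : Set G) := by
    intro a ha c hc'
    rw [mem_conj] at hc'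
    rw [mem_centralizer_iff] at hc' ⊢
    intro b hb
    have h1 := hc' (a⁻¹ * b * a) (by
      have := (mem_normalizer_iff.1 (h (A.inv_mem ha)) b).1 hb
      rwa [inv_inv] at this)
    have h2 := congrArg (fun t => a * t * a⁻¹) h1
    simpa [mul_assoc] using h2
  refine le_antisymm (key a ha) ?_
  have h1 := (conj_le_iff (g := a)).2 (key a⁻¹ (A.inv_mem ha))
  rwa [conj_conj, mul_inv_cancel, map_one, one_smul] at h1

namespace Sit

variable [Finite G] {S : Sylow 2 G} {P H R : Subgroup G}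
variable (hc : IsCharacteristicTwoType G) (Da : Data (S : Subgroup G)) (T : Sit (S : Subgroup G) P H R)
  (hQ : QP (S : Subgroup G) P H)

include hc Da T

/-- The lines commute. -/
theorem line_comm {P₁ : Subgroup G} (h₁ : IsParS (S : Subgroup G) P₁) :
    zl (S : Subgroup G) P₁ ≤ centralizer (zl (S : Subgroup G) P : Set G) := by
  have D' := Basic.geo hc Da
  have h := D'.noff' h₁ T.par (g := 1) (h := 1) (by
    rw [map_one, one_smul, one_smul]
    exact (IsParS.zl_le_S hc h₁).trans T.par.le) (by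
    rw [map_one, one_smul, one_smul]
    exact (IsParS.zl_le_S hc T.par).trans h₁.le)
  rw [map_one, one_smul, one_smul] at h
  exact h

include hQ

/-- `W₀ = ⟨V_{P₁}^L⟩`, `L = ⟨P, C⟩`: all its elements act on `U` as elements of `V`. -/
theorem W0 {P₁ : Subgroup G} (h₁ : IsParS (S : Subgroup G) P₁) (hH : P₁ ≤ H) {y l : G}
    (hy : y ∈ zl (S : Subgroup G) P₁) (hl : l ∈ P ⊔ CZ (S : Subgroup G)) :
    l * y * l⁻¹ ∈ zl (S : Subgroup G) P ⊔ centralizer (zl (S : Subgroup G) H : Set G) := by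
  have hL : IsLong (S : Subgroup G) (P ⊔ CZ (S : Subgroup G)) := Da.loc P T.par
  set L := P ⊔ CZ (S : Subgroup G) with hLdef
  have hUU : zl (S : Subgroup G) P₁ ≤ zl (S : Subgroup G) H := zl_mono hH
  -- `V ⊔ C(U)` centralises `V_{P₁}`
  have h2 : zl (S : Subgroup G) P ⊔ centralizer (zl (S : Subgroup G) H : Set G) ≤
      centralizer (zl (S : Subgroup G) P₁ : Set G) :=
    sup_le (comm_symm (T.line_comm hc Da h₁)) (centralizer_le hUU)
  have hU : zl (S : Subgroup G) L ≤ centralizer (zl (S : Subgroup G) P₁ : Set G) :=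
    (hQ _ ((hL.zl_le_o2 hc S).trans (hL.o2_le S)) (hL.cz.trans (le_normalizer_zl _ _))
      (zl_abel hc S hL.loc).1).trans h2
  have h3 : zl (S : Subgroup G) P₁ ≤ o2 L := le_o2_of_comm (Da.low P₁ h₁) hL (comm_symm hU)
  -- `W₀`
  have h4 : V (zl (S : Subgroup G) P₁) L ≤ o2 L := by
    refine V_le fun x hx => ?_
    have h5 := (conj_le_iff (g := x)).2 h3
    rwa [conj_eq_of_mem (le_normalizer_o2 _ hx)] at h5
  have h6 : L ≤ normalizer (V (zl (S : Subgroup G) P₁) L : Set G) := by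
    intro g hg
    refine RTransv.mem_normalizer_of_conj ?_
    have := conj_V_mul (Z := zl (S : Subgroup G) P₁) (g := 1) hg
    rwa [one_mul, map_one, one_smul] at this
  have D' := Basic.geo hc Da
  have hSL : ∀ x ∈ L, MulAut.conj x • zl (S : Subgroup G) P₁ ≤ o2 L := fun x hx => by
    have h5 := (conj_le_iff (g := x)).2 h3
    rwa [conj_eq_of_mem (le_normalizer_o2 _ hx)] at h5
  have hLP : ∀ x ∈ L, o2 L ≤ MulAut.conj x • P₁ := fun x hx => by
    rw [← conj_eq_of_mem (le_normalizer_o2 L hx)]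
    exact conj_le_iff.2 ((hL.loc.o2_le S).trans h₁.le)
  have h7 : V (zl (S : Subgroup G) P₁) L ≤ centralizer (V (zl (S : Subgroup G) P₁) L : Set G) := by
    refine V_le fun x hx => comm_symm (V_le fun x' hx' => comm_symm ?_)
    exact D'.noff' h₁ h₁ ((hSL x hx).trans (hLP x' hx')) ((hSL x' hx').trans (hLP x hx))
  refine hQ _ (h4.trans (hL.o2_le S)) (hL.cz.trans h6) h7 (Z_le_V (Z := zl (S : Subgroup G) P₁) hl ?_)
  rw [mem_conj]
  simpa [mul_assoc] using hy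

omit Da T in
/-- `U_{C(z)}` acts on `U` as a subgroup of `V`. -/
theorem cz_act {z : G} (hz : z ∈ zc (S : Subgroup G)) (hz1 : z ≠ 1) :
    zl (S : Subgroup G) (centralizer ({z} : Set G)) ≤
      zl (S : Subgroup G) P ⊔ centralizer (zl (S : Subgroup G) H : Set G) := by
  have hC : CZ (S : Subgroup G) ≤ centralizer ({z} : Set G) :=
    centralizer_le (Set.singleton_subset_iff.2 hz)
  have hL : IsLong (S : Subgroup G) (centralizer ({z} : Set G)) :=
    ⟨isLoc_centralizer S (mem_zc.1 hz).2.2 hz1 ((le_CZ S).trans hC), hC⟩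
  exact hQ _ ((hL.zl_le_o2 hc S).trans (hL.o2_le S)) (hL.cz.trans (le_normalizer_zl _ _))
      (zl_abel hc S hL.loc).1

/-- **The main step**: `V^{p₁⁻¹} ≤ V C(U)`. -/
theorem conj_V {P₁ : Subgroup G} (h₁ : IsParS (S : Subgroup G) P₁) (hH : P₁ ≤ H) {p₁ : G} (hp : p₁ ∈ P₁)
    {v : G} (hv : v ∈ zl (S : Subgroup G) P) :
    p₁⁻¹ * v * p₁ ∈ zl (S : Subgroup G) P ⊔ centralizer (zl (S : Subgroup G) H : Set G) := by
  obtain ⟨r, hr, hVr, hZr⟩ := T.rho
  have hUab := (zl_abel hc S T.long.loc).1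
  have hPab := (zl_abel hc S T.par.isLoc).1
  have hPsq := (zl_abel hc S T.par.isLoc).2
  have hZU : zc (S : Subgroup G) ≤ zl (S : Subgroup G) H := zc_le_zl _ _
  have hZV : zc (S : Subgroup G) ≤ zl (S : Subgroup G) P := zc_le_zl _ _
  have hUU : zl (S : Subgroup G) P₁ ≤ zl (S : Subgroup G) H := zl_mono hH
  -- `F ≠ Z`
  have hZF : ¬ zc (S : Subgroup G) ≤ centralizer (H : Set G) := by
    intro h0
    have h2 : zl (S : Subgroup G) H ≤ zc (S : Subgroup G) := zl_le_of_cent h0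
    refine T.ne (h2.trans ?_)
    exact hZV.trans hPab
  obtain ⟨z₀, hz₀, hz₀F⟩ := Set.not_subset.1 hZF
  -- `y = p₁ z₀ p₁⁻¹`
  have hyP : p₁ * z₀ * p₁⁻¹ ∈ zl (S : Subgroup G) P₁ :=
    (mem_normalizer_iff.1 (le_normalizer_zl _ _ hp) z₀).1 (zc_le_zl _ _ hz₀)
  have h1 := T.W0 hc Da hQ h₁ hH hyP (mem_sup_left hr : r ∈ P ⊔ CZ (S : Subgroup G))
  have hVU : zl (S : Subgroup G) P ≤ normalizer (zl (S : Subgroup G) H : Set G) :=
    (IsParS.zl_le_S hc T.par).trans (T.long.loc.le.trans (le_normalizer_zl _ _))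
  have hVC := le_normalizer_centralizer hVU
  obtain ⟨v₁, hv₁, c, hcU, e1⟩ := exists_mul_of_mem_sup hVC h1
  -- `E^r = E`
  have hEr : ∀ {e : G}, e ∈ centralizer (P : Set G) → ∀ {s : G}, s ∈ P → s * e * s⁻¹ = e :=
    fun he s hs => by rw [mem_centralizer_iff.1 he s hs, mul_inv_cancel_right]
  -- `V ≤ Z ⊔ F^r`
  obtain ⟨z, hz, f, hf, e2⟩ : ∃ z ∈ zc (S : Subgroup G), ∃ f ∈ zc (S : Subgroup G) ⊓ centralizer (H : Set G),
      v₁ = z * (r * f * r⁻¹) := by
    have hle : MulAut.conj r • zc (S : Subgroup G) ≤ zl (S : Subgroup G) P := by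
      have h3 := (conj_le_iff (g := r)).2 hZV
      rwa [conj_eq_of_mem (le_normalizer_zl _ _ hr)] at h3
    have hn : zc (S : Subgroup G) ≤ normalizer ((MulAut.conj r • zc (S : Subgroup G) : Subgroup G) : Set G) := by
      refine le_trans (hZV.trans (hPab.trans (centralizer_le hle))) (centralizer_le_normalizer _)
    obtain ⟨z₁, hz₁, y, hy, e3⟩ := exists_mul_of_mem_sup hn (hVr hv₁)
    rw [mem_conj] at hy
    have hn' : zc (S : Subgroup G) ⊓ centralizer (H : Set G) ≤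
        normalizer ((zc (S : Subgroup G) ⊓ centralizer (P : Set G) : Subgroup G) : Set G) :=
      le_trans (inf_le_left.trans (hZV.trans (hPab.trans (centralizer_le (inf_le_left.trans hZV)))))
        (centralizer_le_normalizer _)
    obtain ⟨f, hf, e, he, e4⟩ := exists_mul_of_mem_sup hn' (T.FE hy)
    refine ⟨z₁ * e, mul_mem hz₁ he.1, f, hf, ?_⟩
    have e5 : y = (r * f * r⁻¹) * (r * e * r⁻¹) := by
      calc y = r * (r⁻¹ * y * r) * r⁻¹ := by group
        _ = _ := by rw [e4]; group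
    rw [hEr he.2 hr] at e5
    have e6 : r * f * r⁻¹ * e = e * (r * f * r⁻¹) := by
      refine mem_centralizer_iff.1 (hPab (hZV he.1)) _ ?_
      exact (mem_normalizer_iff.1 (le_normalizer_zl _ _ hr) f).1 (hZV hf.1)
    rw [e3, e5, e6, ← mul_assoc]
  set x := p₁ * z₀ * p₁⁻¹ * f⁻¹ with hx
  have hfH : ∀ h ∈ H, h * f * h⁻¹ = f := fun h hh => by
    rw [mem_centralizer_iff.1 hf.2 h hh, mul_inv_cancel_right]
  have hpH : p₁ ∈ H := hH hp
  -- `x = p₁ z p₁⁻¹`
  have ex : x = p₁ * (z₀ * f⁻¹) * p₁⁻¹ := by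
    have h3 : p₁ * f⁻¹ * p₁⁻¹ = f⁻¹ := by
      have := congrArg (·⁻¹) (hfH p₁ hpH)
      simpa [mul_assoc] using this
    calc x = p₁ * z₀ * p₁⁻¹ * f⁻¹ := hx
      _ = p₁ * z₀ * p₁⁻¹ * (p₁ * f⁻¹ * p₁⁻¹) := by rw [h3]
      _ = _ := by group
  have hzz : z₀ * f⁻¹ ∈ zc (S : Subgroup G) := mul_mem hz₀ (inv_mem hf.1)
  have hzz1 : z₀ * f⁻¹ ≠ 1 := fun h0 => hz₀F (by
    rw [mul_inv_eq_one.1 h0]
    exact hf.2)
  -- `r x r⁻¹` centralises `U`
  have hrV : r * f * r⁻¹ ∈ zl (S : Subgroup G) P :=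
    (mem_normalizer_iff.1 (le_normalizer_zl _ _ hr) f).1 (hZV hf.1)
  have hrx : r * x * r⁻¹ ∈ centralizer (zl (S : Subgroup G) H : Set G) := by
    have h3 : r * x * r⁻¹ = z * ((r * f * r⁻¹) * c * (r * f * r⁻¹)⁻¹) := by
      calc r * x * r⁻¹ = (r * (p₁ * z₀ * p₁⁻¹) * r⁻¹) * (r * f * r⁻¹)⁻¹ := by rw [hx]; group
        _ = _ := by rw [e1, e2]; group
    rw [h3]
    exact mul_mem (hUab (hZU hz)) ((mem_normalizer_iff.1 (hVC hrV) c).1 hcU)
  -- `Y = ⟨U, U^{r⁻¹}⟩ ≤ C(x)`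
  have hxU : x ∈ zl (S : Subgroup G) H := by
    rw [ex]
    exact (mem_normalizer_iff.1 (le_normalizer_zl _ _ hpH) _).1 (hZU hzz)
  have hUx : ∀ u ∈ zl (S : Subgroup G) H, u * x = x * u := fun u hu => mem_centralizer_iff.1 (hUab hxU) u hu
  have hU'x : ∀ u ∈ zl (S : Subgroup G) H, (r⁻¹ * u * r) * x = x * (r⁻¹ * u * r) := fun u hu => by
    have h3 := mem_centralizer_iff.1 hrx u hu
    have h4 := congrArg (fun t => r⁻¹ * t * r) h3
    simpa [mul_assoc] using h4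
  -- the elements `g f' g⁻¹`
  have hX : ∀ g : G, g * x = x * g → ∀ f' ∈ zc (S : Subgroup G) ⊓ centralizer (H : Set G),
      p₁⁻¹ * (g * f' * g⁻¹) * p₁ ∈ zl (S : Subgroup G) P ⊔ centralizer (zl (S : Subgroup G) H : Set G) := by
    intro g hg f' hf'
    have h3 : p₁⁻¹ * g * p₁ ∈ centralizer ({z₀ * f⁻¹} : Set G) := by
      rw [mem_centralizer_singleton_iff]
      rw [ex] at hg
      have h4 := congrArg (fun t => p₁⁻¹ * t * p₁) hg
      calc p₁⁻¹ * g * p₁ * (z₀ * f⁻¹) = p₁⁻¹ * (g * (p₁ * (z₀ * f⁻¹) * p₁⁻¹)) * p₁ := by group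
        _ = p₁⁻¹ * (p₁ * (z₀ * f⁻¹) * p₁⁻¹ * g) * p₁ := h4
        _ = _ := by group
    have h5 : p₁⁻¹ * f' * p₁ = f' := by
      have := mem_centralizer_iff.1 hf'.2 p₁ hpH
      rw [mul_assoc, ← this, inv_mul_cancel_left]
    have h6 : p₁⁻¹ * (g * f' * g⁻¹) * p₁ = (p₁⁻¹ * g * p₁) * f' * (p₁⁻¹ * g * p₁)⁻¹ := by
      calc p₁⁻¹ * (g * f' * g⁻¹) * p₁ = (p₁⁻¹ * g * p₁) * (p₁⁻¹ * f' * p₁) * (p₁⁻¹ * g * p₁)⁻¹ := by group
        _ = _ := by rw [h5]
    rw [h6]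
    refine cz_act hc hQ hzz hzz1 ?_
    exact (mem_normalizer_iff.1 (le_normalizer_zl _ _ h3) f').1 (zc_le_zl _ _ hf'.1)
  -- `E`
  have hE : ∀ e ∈ zc (S : Subgroup G) ⊓ centralizer (P : Set G),
      p₁⁻¹ * e * p₁ ∈ zl (S : Subgroup G) P ⊔ centralizer (zl (S : Subgroup G) H : Set G) := by
    intro e he
    refine mem_sup_right (hUab ?_)
    have := (mem_normalizer_iff.1 (le_normalizer_zl (S : Subgroup G) H (inv_mem hpH)) e).1 (hZU he.1)
    rwa [inv_inv] at this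
  set K := zl (S : Subgroup G) P ⊔ centralizer (zl (S : Subgroup G) H : Set G) with hK
  -- `X`
  have hXm : ∀ {a b : G}, p₁⁻¹ * a * p₁ ∈ K → p₁⁻¹ * b * p₁ ∈ K → p₁⁻¹ * (a * b) * p₁ ∈ K := by
    intro a b ha hb
    have := mul_mem ha hb
    have e7 : p₁⁻¹ * (a * b) * p₁ = p₁⁻¹ * a * p₁ * (p₁⁻¹ * b * p₁) := by group
    rwa [e7]
  have hXi : ∀ {a : G}, p₁⁻¹ * a * p₁ ∈ K → p₁⁻¹ * a⁻¹ * p₁ ∈ K := by
    intro a ha
    have := inv_mem ha
    have e7 : p₁⁻¹ * a⁻¹ * p₁ = (p₁⁻¹ * a * p₁)⁻¹ := by group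
    rwa [e7]
  have hn' : zc (S : Subgroup G) ⊓ centralizer (H : Set G) ≤
      normalizer ((zc (S : Subgroup G) ⊓ centralizer (P : Set G) : Subgroup G) : Set G) :=
    le_trans (inf_le_left.trans (hZV.trans (hPab.trans (centralizer_le (inf_le_left.trans hZV)))))
      (centralizer_le_normalizer _)
  have hF : ∀ f' ∈ zc (S : Subgroup G) ⊓ centralizer (H : Set G), p₁⁻¹ * f' * p₁ ∈ K := by
    intro f' hf'
    have := hX 1 (by rw [one_mul, mul_one]) f' hf'
    simpa using this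
  have hZ : ∀ z₁ ∈ zc (S : Subgroup G), p₁⁻¹ * z₁ * p₁ ∈ K := by
    intro z₁ hz₁
    obtain ⟨f', hf', e, he, rfl⟩ := exists_mul_of_mem_sup hn' (T.FE hz₁)
    exact hXm (hF f' hf') (hE e he)
  -- `f' ∈ F - E`
  obtain ⟨f', hf', hf'E⟩ : ∃ f' ∈ zc (S : Subgroup G) ⊓ centralizer (H : Set G), f' ∉ centralizer (P : Set G) := by
    by_contra h0
    push Not at h0
    have h2 : zc (S : Subgroup G) ≤ centralizer (P : Set G) :=
      T.FE.trans (sup_le (fun x hx => h0 x hx) inf_le_right)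
    have h3 : zl (S : Subgroup G) P ≤ zc (S : Subgroup G) := zl_le_of_cent h2
    exact T.ne ((IsLong.zl_le_S hc T.long).trans ((le_CZ S).trans (centralizer_le h3)))
  have hrf' : r * f' * r⁻¹ ∉ zc (S : Subgroup G) := by
    intro h0
    have h2 := hZr (mem_inf.2 ⟨h0, by rw [mem_conj]; simpa [mul_assoc] using hf'.1⟩)
    have h3 := hEr h2 (inv_mem hr)
    rw [inv_inv] at h3
    have h4 : r⁻¹ * (r * f' * r⁻¹) * r = f' := by group
    rw [h4] at h3
    rw [← h3] at h2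
    exact hf'E h2
  have hrf'V : r * f' * r⁻¹ ∈ zl (S : Subgroup G) P :=
    (mem_normalizer_iff.1 (le_normalizer_zl _ _ hr) f').1 (hZV hf'.1)
  have hZ' : ∀ z₁ ∈ zc (S : Subgroup G), p₁⁻¹ * (r⁻¹ * z₁ * r) * p₁ ∈ K := by
    intro z₁ hz₁
    obtain ⟨u, hu, he⟩ := T.full _ hrf'V hrf' z₁ hz₁
    set e := u * (r * f' * r⁻¹) * u⁻¹ * (r * f' * r⁻¹)⁻¹ * z₁⁻¹ with hedef
    have h5 : r⁻¹ * z₁ * r = e⁻¹ * (((r⁻¹ * u * r) * f' * (r⁻¹ * u * r)⁻¹) * f'⁻¹) := by
      have h6 := hEr he.2 (inv_mem hr)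
      rw [inv_inv] at h6
      calc r⁻¹ * z₁ * r = (r⁻¹ * e * r)⁻¹ * (((r⁻¹ * u * r) * f' * (r⁻¹ * u * r)⁻¹) * f'⁻¹) := by
            rw [hedef]; group
        _ = _ := by rw [h6]
    rw [h5]
    exact hXm (hXi (hE e he)) (hXm (hX _ (hU'x u hu) f' hf') (hXi (hF f' hf')))
  -- `V = Z^{r⁻¹} Z`
  have h8 : zl (S : Subgroup G) P ≤ MulAut.conj r⁻¹ • zc (S : Subgroup G) ⊔ zc (S : Subgroup G) := by
    have h9 := (conj_le_iff (g := r⁻¹)).2 hVr
    rwa [conj_eq_of_mem (le_normalizer_zl _ _ (inv_mem hr)), Subgroup.smul_sup, conj_conj, inv_mul_cancel,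
      map_one, one_smul] at h9
  have h10 : MulAut.conj r⁻¹ • zc (S : Subgroup G) ⊔ zc (S : Subgroup G) ≤ MulAut.conj p₁ • K := by
    refine sup_le (fun y hy => ?_) (fun y hy => ?_)
    · rw [mem_conj, inv_inv] at hy
      rw [mem_conj]
      have h11 := hZ' _ hy
      have h12 : r⁻¹ * (r * y * r⁻¹) * r = y := by group
      rwa [h12] at h11
    · rw [mem_conj]
      exact hZ y hy
  have h13 := h10 (h8 hv)
  rwa [mem_conj] at h13

include Da hQ in
/-- **(7) END**: contradiction. -/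
theorem «false» : False := by
  have hUab := (zl_abel hc S T.long.loc).1
  have hVU : zl (S : Subgroup G) P ≤ normalizer (zl (S : Subgroup G) H : Set G) :=
    (IsParS.zl_le_S hc T.par).trans (T.long.loc.le.trans (le_normalizer_zl _ _))
  have hVC := le_normalizer_centralizer hVU
  have hZR : zc (S : Subgroup G) ≤ normalizer (R : Set G) :=
    (zc_le _).trans (T.long.loc.le.trans T.HR)
  -- `[U, V] ≤ Z`
  have hUVZ : ⁅zl (S : Subgroup G) H, zl (S : Subgroup G) P⁆ ≤ zc (S : Subgroup G) :=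
    commutator_le.2 fun u hu v hv => T.UV u hu v hv
  have hHX : H ≤ normalizer ((zc (S : Subgroup G) ⊔ R : Subgroup G) : Set G) := by
    refine T.gen _ ?_ fun P₁ h₁ hH => ?_
    · intro g hg
      refine RTransv.mem_normalizer_of_conj ?_
      rw [Subgroup.smul_sup, conj_eq_of_mem (centralizer_le_normalizer _ hg), conj_eq_of_mem (T.HR (T.long.cz hg))]
    · have key : ∀ p₁ ∈ P₁, MulAut.conj p₁⁻¹ • (zc (S : Subgroup G) ⊔ R) ≤ zc (S : Subgroup G) ⊔ R := by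
        intro p₁ hp
        rw [Subgroup.smul_sup, conj_eq_of_mem (T.HR (inv_mem (hH hp)))]
        refine sup_le ?_ le_sup_right
        have h1 := (conj_le_iff (g := p₁⁻¹)).2 T.ZR
        rw [Subgroup.smul_sup, conj_eq_of_mem (T.HR (inv_mem (hH hp)))] at h1
        refine h1.trans (sup_le ?_ le_sup_right)
        have h2 : MulAut.conj p₁⁻¹ • ⁅zl (S : Subgroup G) H, zl (S : Subgroup G) P⁆ ≤
            ⁅zl (S : Subgroup G) H, zl (S : Subgroup G) P⁆ := by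
          have h3 : MulAut.conj p₁⁻¹ • ⁅zl (S : Subgroup G) H, zl (S : Subgroup G) P⁆ =
              ⁅MulAut.conj p₁⁻¹ • zl (S : Subgroup G) H, MulAut.conj p₁⁻¹ • zl (S : Subgroup G) P⁆ :=
            map_commutator _ _ _
          rw [h3, conj_eq_of_mem (le_normalizer_zl _ _ (inv_mem (hH hp))), commutator_le]
          intro u hu w hw
          rw [mem_conj, inv_inv] at hw
          have h4 := T.conj_V hc Da hQ h₁ hH hp hw
          have h5 : p₁⁻¹ * (p₁ * w * p₁⁻¹) * p₁ = w := by group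
          rw [h5] at h4
          obtain ⟨v, hv, c, hcU, rfl⟩ := exists_mul_of_mem_sup hVC h4
          have h6 : ⁅u, v * c⁆ = ⁅u, v⁆ := by
            have h7 : c * u⁻¹ = u⁻¹ * c := (mem_centralizer_iff.1 hcU _ (inv_mem hu)).symm
            calc ⁅u, v * c⁆ = u * v * (c * u⁻¹) * c⁻¹ * v⁻¹ := by rw [commutatorElement_def]; group
              _ = ⁅u, v⁆ := by rw [h7, commutatorElement_def]; group
          rw [h6]
          exact commutator_mem_commutator hu hv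
        exact (h2.trans hUVZ).trans le_sup_left
      intro p₁ hp
      refine RTransv.mem_normalizer_of_conj (le_antisymm ?_ ?_)
      · have := key p₁⁻¹ (inv_mem hp)
        rwa [inv_inv] at this
      · have h1 := (conj_le_iff (g := p₁)).2 (key p₁ hp)
        rwa [conj_conj, mul_inv_cancel, map_one, one_smul] at h1
  have h1 : zl (S : Subgroup G) H ≤ zc (S : Subgroup G) ⊔ R := zl_le le_sup_left hHX
  exact T.ne (h1.trans (sup_le ((zc_le_zl _ _).trans (zl_abel hc S T.par.isLoc).1) T.RV))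

end Sit

end Cfsg.Agent.Omega.NOThreeL.RA.End
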