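import Cfsg.Agent.Omega.NOThreeL.RA.Pts
import Cfsg.Agent.Omega.NOThreeL.RA.Inst

/-!
# NO-3L, `R ∩ (A)`, `k = 1`, `q > 2` (#19087): the lines over `Z R`, and MANY AXES at group level

* `HypQ.comm_of_smul` : `a ∈ V^k` fixes `π z`, `z ∈ Z^h`, then `[a, z] = 1`;
* `HypQ.VG_le_CZ` : the lines over a point `t` with `¬ Mv t Z~` lie in `C = C_G(Z)`;
* `HypQ.over_le_o2` : the lines over `Z~` lie in `O₂(C_N(Z)) ≤ S`;
* `HypQ.many_false` : MANY AXES (`p ~ e ⟹ p = e`) is impossible.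
-/

set_option autoImplicit false
set_option linter.unusedSectionVars false

namespace Cfsg.Agent.Omega.NOThreeL.RA

open Subgroup Cfsg Cfsg.Agent.Omega.MinPar
open Cfsg.Agent.ZN (zc zl o2)
open Cfsg.Agent.Omega.Frame Cfsg.Agent.Omega.FrameNOFF
open Cfsg.Agent.Omega.Node.NO3L Cfsg.Agent.Omega.NOThreeL.Basic
open Cfsg.Agent.Omega.NoFF.Basic (conj_conj mem_conj conj_le_iff conj_le_centralizer comm_symm comm_mono)
open Cfsg.Agent.Omega.NOThreeL.Pair (conj_eq_of_mem conj_le_normalizer zl_abel)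
open Cfsg.Agent.MinSimple.VModule (zl_le zc_le_zl le_normalizer_zl zc_le o2_isPGroup le_normalizer_o2 le_o2 o2_le)
open Cfsg.Agent.Omega.NOThreeL.RTools (cm cm_def cm_mul NN conj_mem_of_mem conj_le_NN le_NN NN_le le_normalizer_NN)
open Cfsg.Agent.Omega.NOThreeL.RBig.Pts (Mv Frame)
open scoped Pointwise commutatorElement

universe u

variable {G : Type u} [Group G]

/-- a `2`-subgroup normalised by the Sylow group lies in it -/
theorem le_sylow [Finite G] (S : Sylow 2 G) {A : Subgroup G} (hA : IsPGroup 2 A)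
    (h : (S : Subgroup G) ≤ normalizer (A : Set G)) : A ≤ (S : Subgroup G) := by
  have h1 : IsPGroup 2 ((S : Subgroup G) ⊔ A : Subgroup G) := IsPGroup.to_sup_of_normal_right' S.isPGroup' hA h
  exact le_sup_right.trans (S.is_maximal' h1 le_sup_left).le

namespace HypQ

variable [Finite G] {F : Type} [Field F] {e : G → Fin 2 → F} {S : Sylow 2 G} {P H : Subgroup G} (D : HypQ e S P H)
  {M Γ : Type*} [AddCommGroup M] [Group Γ] [DistribMulAction Γ M] {ρ : ↥H →* Γ} {π : G → M}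
include D

variable (Q : Md (zl (S : Subgroup G) H) (Rr (S : Subgroup G) P H) H ρ π)

/-- `[a, z] ∈ R` implies `[a, z] = 1` for `a ∈ V^k`, `z ∈ Z^h` -/
theorem comm_of_R {h k a z : G} (hh : h ∈ H) (hk : k ∈ H) (ha : a ∈ MulAut.conj k • zl (S : Subgroup G) P)
    (hz : z ∈ MulAut.conj h • zc (S : Subgroup G)) (hR : cm a z ∈ Rr (S : Subgroup G) P H) : a * z = z * a :=
  D.comm_of_F hh hz (D.conjV_le hk ha) (D.R_inf hk hR (D.cm_conj hk ha (D.conjZ_le hh hz)))

include Q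

/-- the line `V^k` centralises `Z` if it fixes `Z~` -/
theorem line_le_CZ {k : G} (hk : k ∈ H) (h : ∀ a ∈ MulAut.conj k • zl (S : Subgroup G) P, ∀ ha : a ∈ H,
    ∀ x ∈ img π (zc (S : Subgroup G)), ρ ⟨a, ha⟩ • x = x) :
    MulAut.conj k • zl (S : Subgroup G) P ≤ CZ (S : Subgroup G) := by
  intro a ha
  change a ∈ centralizer (zc (S : Subgroup G) : Set G)
  rw [mem_centralizer_iff]
  intro z hz
  have haH := D.conjV_le hk ha
  have h1 := h a ha haH (π z) (Md.pi_mem hz)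
  rw [D.smul_eq_iff Q haH (D.ZU hz)] at h1
  have hz' : z ∈ MulAut.conj (1 : G) • zc (S : Subgroup G) := by rwa [map_one, one_smul]
  exact (D.comm_of_R (one_mem H) hk ha hz' h1).symm

/-- the lines over a point commuting with `Z~` lie in `C` -/
theorem VG_le_CZ {t : AddSubgroup M} (ht : ¬ Mv (VV ρ π (S : Subgroup G) P) t (img π (zc (S : Subgroup G)))) :
    VG π (S : Subgroup G) P H t ≤ CZ (S : Subgroup G) := by
  refine VG_le fun k hk hp => D.line_le_CZ Q hk fun a ha haH x hx => ?_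
  refine RBig.Pts.not_mv ht (mem_VV.2 ⟨a, haH, ?_, rfl⟩) hx
  rw [← hp]
  exact conj_le_VG hk ha

/-- the lines over `Z~` -/
theorem over_le_CZ {k : G} (hk : k ∈ H) (hp : img π (MulAut.conj k • zc (S : Subgroup G)) = img π (zc (S : Subgroup G))) :
    MulAut.conj k • zl (S : Subgroup G) P ≤ CZ (S : Subgroup G) := by
  refine D.line_le_CZ Q hk fun a ha haH x hx => ?_
  rw [← hp] at hx
  exact (D.VV_prop Q (mem_VV.2 ⟨a, haH, conj_le_VG hk ha, rfl⟩)).2 x hx

/-- **the lines over `Z~` lie in `O₂(C_N(Z))`** -/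
theorem over_le_o2 {k : G} (hk : k ∈ H)
    (hp : img π (MulAut.conj k • zc (S : Subgroup G)) = img π (zc (S : Subgroup G))) :
    MulAut.conj k • zl (S : Subgroup G) P ≤ o2 (NN (S : Subgroup G) P H ⊓ CZ (S : Subgroup G)) := by
  obtain ⟨z, hz, hzF⟩ := D.Z_not_F (one_mem H)
  rw [map_one, one_smul] at hz
  have h1 : π z ∈ img π (MulAut.conj k • zc (S : Subgroup G)) := by
    rw [hp]
    exact Md.pi_mem hz
  rw [Q.pi_mem_iff (D.conjZ_le hk) (D.ZU hz)] at h1
  obtain ⟨x, hx, r, hr, h2⟩ := h1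
  have hxF : x ∉ Fc (S : Subgroup G) H := by
    intro h3
    apply hzF
    refine D.R_inf (one_mem H) ?_ (by rwa [map_one, one_smul])
    rw [h2]
    rw [← D.R_inf_Z] at h3
    exact mul_mem hr (mem_inf.1 h3).1
  have h3 := D.min_o2 hk hx hxF
  have h4 : NN (S : Subgroup G) P H ⊓ CZ (S : Subgroup G) ≤ H ⊓ centralizer ({x} : Set G) := by
    intro n hn
    obtain ⟨hn1, hn2⟩ := mem_inf.1 hn
    refine mem_inf.2 ⟨D.NN_le_H hn1, ?_⟩
    rw [mem_centralizer_singleton_iff]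
    have h5 : n * r = r * n := mem_centralizer_iff.1 (mem_inf.1 hr).2 n hn1
    have h6 : z * n = n * z := mem_centralizer_iff.1 hn2 z hz
    have h7 : x = r⁻¹ * z := by rw [h2]; group
    have h8 : n * r⁻¹ = r⁻¹ * n := by
      calc n * r⁻¹ = r⁻¹ * (r * n) * r⁻¹ := by group
        _ = r⁻¹ * (n * r) * r⁻¹ := by rw [h5]
        _ = r⁻¹ * n := by group
    rw [h7]
    calc n * (r⁻¹ * z) = (n * r⁻¹) * z := by group
      _ = (r⁻¹ * n) * z := by rw [h8]
      _ = r⁻¹ * (n * z) := by group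
      _ = r⁻¹ * (z * n) := by rw [h6]
      _ = r⁻¹ * z * n := by group
  have h5 : o2 (H ⊓ centralizer ({x} : Set G)) ⊓ (NN (S : Subgroup G) P H ⊓ CZ (S : Subgroup G)) ≤
      o2 (NN (S : Subgroup G) P H ⊓ CZ (S : Subgroup G)) := by
    refine le_o2 inf_le_right ((o2_isPGroup _).to_le inf_le_left) ?_
    intro g hg
    have h6 := le_normalizer_o2 (H ⊓ centralizer ({x} : Set G)) (h4 hg)
    rw [mem_normalizer_iff] at h6 ⊢
    intro t
    have h7 := mem_normalizer_iff.mp (Subgroup.le_normalizer hg) t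
    exact ⟨fun ht => mem_inf.2 ⟨(h6 t).1 (mem_inf.1 ht).1, h7.1 (mem_inf.1 ht).2⟩,
      fun ht => mem_inf.2 ⟨(h6 t).2 (mem_inf.1 ht).1, h7.2 (mem_inf.1 ht).2⟩⟩
  exact (le_inf h3 (le_inf (conj_le_NN hk) (D.over_le_CZ Q hk hp))).trans h5

omit Q in
theorem o2_NC_le_S : o2 (NN (S : Subgroup G) P H ⊓ CZ (S : Subgroup G)) ≤ (S : Subgroup G) := by
  refine le_sylow S (o2_isPGroup _) ?_
  have h1 : (S : Subgroup G) ≤ normalizer ((NN (S : Subgroup G) P H ⊓ CZ (S : Subgroup G) : Subgroup G) : Set G) := by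
    intro s hs
    have h2 := le_normalizer_NN (S : Subgroup G) P H (D.SH hs)
    have h3 := Subgroup.le_normalizer (le_CZ S hs)
    rw [mem_normalizer_iff] at h2 h3 ⊢
    intro t
    rw [mem_inf, mem_inf, h2 t, h3 t]
  exact h1.trans (Cfsg.Agent.Omega.normalizer_le_normalizer_o2' _)

/-- the lines over `Z~` lie in `S` -/
theorem over_le_S {k : G} (hk : k ∈ H)
    (hp : img π (MulAut.conj k • zc (S : Subgroup G)) = img π (zc (S : Subgroup G))) :
    MulAut.conj k • zl (S : Subgroup G) P ≤ (S : Subgroup G) :=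
  (D.over_le_o2 Q hk hp).trans D.o2_NC_le_S

/-- the lines over `Z~` commute with `V_{P₁}`, `P₁ ≤ H` -/
theorem over_comm {k : G} (hk : k ∈ H)
    (hp : img π (MulAut.conj k • zc (S : Subgroup G)) = img π (zc (S : Subgroup G))) {P₁ : Subgroup G}
    (h₁ : IsParS (S : Subgroup G) P₁) (hH : P₁ ≤ H) :
    MulAut.conj k • zl (S : Subgroup G) P ≤ centralizer (zl (S : Subgroup G) P₁ : Set G) := by
  have D' := Basic.geo D.hc D.data
  have h := D'.noff' D.par h₁ (g := k) (h := 1) (by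
    rw [map_one, one_smul]
    exact (D.over_le_S Q hk hp).trans h₁.le) (by
    rw [map_one, one_smul]
    have h2 : zl (S : Subgroup G) P₁ ≤ zl (S : Subgroup G) H := End.zl_mono hH
    refine h2.trans ?_
    rw [← D.conjU hk]
    exact conj_le_iff.2 D.UP)
  rw [map_one, one_smul] at h
  exact h

/-- **MANY AXES** is impossible. -/
theorem many_false (hmany : ∀ e ∈ Pt π (S : Subgroup G) H, ∀ p ∈ Pt π (S : Subgroup G) H,
    ¬ Mv (VV ρ π (S : Subgroup G) P) e p → e = p) : False := by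
  have Fr := D.frame Q
  set e₀ := img π (zc (S : Subgroup G)) with he₀
  have hone : img π (MulAut.conj (1 : G) • zc (S : Subgroup G)) = e₀ := by rw [map_one, one_smul]
  have heP : e₀ ∈ Pt π (S : Subgroup G) H := ⟨1, one_mem H, hone⟩
  -- `H` fixes `e₀`
  have hle : H ≤ (Subgroup.comap ρ (MulAction.stabilizer Γ e₀)).map H.subtype := by
    refine D.gen _ (fun c hcc => ?_) fun P₁ h₁ hH g hg => ?_
    · have hcH := D.CH hcc
      refine ⟨⟨c, hcH⟩, ?_, rfl⟩
      change ρ ⟨c, hcH⟩ • e₀ = e₀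
      rw [he₀, D.smul_img Q hcH D.ZU, conj_eq_of_mem (centralizer_le_normalizer _ hcc)]
    · have hgH := hH hg
      refine ⟨⟨g, hgH⟩, ?_, rfl⟩
      change ρ ⟨g, hgH⟩ • e₀ = e₀
      rw [he₀, D.smul_img Q hgH D.ZU]
      refine (hmany e₀ heP _ (mem_Pt hgH) ?_).symm
      intro hm
      obtain ⟨k, hk, hp, a, ha, haH, x, hx, hne⟩ := D.line_of_mv Q hm
      apply hne
      obtain ⟨z, hz, rfl⟩ := (Q.mem_img (D.conjZ_le hgH)).1 hx
      rw [D.smul_eq_iff Q haH (D.conjZ_le hgH hz)]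
      have h1 : z ∈ zl (S : Subgroup G) P₁ := by
        have h2 := (conj_le_iff (g := g)).2 (zc_le_zl (S : Subgroup G) P₁)
        rw [conj_eq_of_mem (le_normalizer_zl _ _ hg)] at h2
        exact h2 hz
      have h2 := mem_centralizer_iff.1 (D.over_comm Q hk hp h₁ hH ha) z h1
      rw [cm_eq_one.2 h2.symm]
      exact one_mem _
  obtain ⟨r, hr, hm⟩ := Fr.exists_mv heP
  obtain ⟨h, hh, rfl⟩ := hr
  obtain ⟨⟨h', hh'⟩, h1, h2⟩ := hle hh
  have h3 : h' = h := h2
  subst h3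
  have h4 : ρ ⟨h', hh'⟩ • e₀ = e₀ := h1
  rw [he₀, D.smul_img Q hh' D.ZU] at h4
  rw [h4] at hm
  obtain ⟨v, hv, x, hx, hne⟩ := hm
  exact hne (Fr.triv _ heP v hv x hx)

end HypQ

end Cfsg.Agent.Omega.NOThreeL.RA
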