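import Cfsg.Agent.Omega.NOThreeL.RA.Pts
import Cfsg.Agent.Omega.NOThreeL.RA.End
import Cfsg.Agent.Omega.NOThreeL.RBig.Quad

/-!
# NO-3L, `R ∩ (A)`, `k = 1`, `q > 2` (#19087 (6)): (Q) from the point system

`e = Z R / R`; `Out Pt VV e` (one axis) implies `End.QP S P H`: every abelian normal subgroup `B ≤ O₂(C)` of `C`
acts on `U` as a subgroup of `V`.

* `HypQ.VG_le_CZ_of` : the lines over the points `t ~ e` are in `C`;
* `HypQ.quad` : the image of `B` satisfies `Quad`;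
* `HypQ.reg_mem` : an element of `VV e` is the image of an element of `V`;
* **`HypQ.qp`**.
-/

set_option autoImplicit false
set_option linter.unusedSectionVars false

namespace Cfsg.Agent.Omega.NOThreeL.RA

open Subgroup Cfsg Cfsg.Agent.Omega.MinPar
open Cfsg.Agent.ZN (zc zl o2)
open Cfsg.Agent.Omega.Frame Cfsg.Agent.Omega.FrameNOFF
open Cfsg.Agent.Omega.Node.NO3L Cfsg.Agent.Omega.NOThreeL.Basic
open Cfsg.Agent.Omega.NoFF.Basic (conj_conj mem_conj conj_le_iff conj_le_centralizer comm_symm comm_mono)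
open Cfsg.Agent.MinSimple.VModule (zl_le zc_le_zl le_normalizer_zl zc_le o2_isPGroup le_normalizer_o2 le_o2
  normalizer_le_normalizer_zc)
open Cfsg.Agent.Omega.NOThreeL.RTools (cm cm_def cm_mul NN conj_mem_of_mem conj_le_NN le_NN NN_le le_normalizer_NN
  le_sup_inf isLong)
open Cfsg.Agent.Omega.NOThreeL.RBig.Pts (Mv Frame Out Quad)
open scoped Pointwise commutatorElement

universe u

variable {G : Type u} [Group G]

namespace HypQ

variable [Finite G] {F : Type} [Field F] {e : G → Fin 2 → F} {S : Sylow 2 G} {P H : Subgroup G} (D : HypQ e S P H)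
  {M Γ : Type*} [AddCommGroup M] [Group Γ] [DistribMulAction Γ M] {ρ : ↥H →* Γ} {π : G → M}
include D

theorem VC : zl (S : Subgroup G) P ≤ CZ (S : Subgroup G) := by
  refine D.VS.trans ?_
  intro s hs
  refine mem_centralizer_iff.2 fun z hz => ?_
  exact (zcomm hz hs).symm

theorem UC : zl (S : Subgroup G) H ≤ CZ (S : Subgroup G) := by
  refine D.US.trans ?_
  intro s hs
  refine mem_centralizer_iff.2 fun z hz => ?_
  exact (zcomm hz hs).symm

variable (Q : Md (zl (S : Subgroup G) H) (Rr (S : Subgroup G) P H) H ρ π)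
include Q

theorem pt_e : img π (zc (S : Subgroup G)) ∈ Pt π (S : Subgroup G) H := by
  have h := mem_Pt (π := π) (S := (S : Subgroup G)) (one_mem H)
  rwa [map_one, one_smul] at h

/-- the lines over `t ~ e` are in `C` -/
theorem VG_le_CZ_of {t : AddSubgroup M} (ht : ¬ Mv (VV ρ π (S : Subgroup G) P) t (img π (zc (S : Subgroup G)))) :
    VG π (S : Subgroup G) P H t ≤ CZ (S : Subgroup G) := by
  refine VG_le fun k hk hp a ha => ?_
  have haH := D.conjV_le hk ha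
  refine mem_centralizer_iff.2 fun z hz => ?_
  have hzU := D.ZU hz
  have h1 : ρ ⟨a, haH⟩ • π z = π z :=
    RBig.Pts.not_mv ht (mem_VV.2 ⟨a, haH, hp ▸ conj_le_VG hk ha, rfl⟩) (Md.pi_mem hz)
  rw [D.smul_eq_iff Q haH hzU] at h1
  have h2 := D.R_inf hk h1 (D.cm_conj hk ha hzU)
  have h3 : z ∈ MulAut.conj (1 : G) • zc (S : Subgroup G) := by rwa [map_one, one_smul]
  exact (D.comm_of_F (one_mem H) h3 haH h2).symm

/-- the image of `B` -/
theorem quad {B : Subgroup G} (hB : B ≤ o2 (CZ (S : Subgroup G))) (hCB : CZ (S : Subgroup G) ≤ normalizer (B : Set G))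
    (hBB : B ≤ centralizer (B : Set G)) :
    Quad ρ.range (Pt π (S : Subgroup G) H) (VV ρ π (S : Subgroup G) P) (img π (zc (S : Subgroup G)))
      ((B.subgroupOf H).map ρ) where
  le := by
    rintro _ ⟨b, _, rfl⟩
    exact ⟨b, rfl⟩
  quad := by
    rintro _ ⟨⟨b, hbH⟩, hb, rfl⟩ _ ⟨⟨b', hbH'⟩, hb', rfl⟩ m
    have hb1 : b ∈ B := hb
    have hb2 : b' ∈ B := hb'
    obtain ⟨u, hu, rfl⟩ := Q.surj m
    rw [D.smul_add Q hbH' hu, D.smul_eq_iff Q hbH (D.cm_mem_U Q hbH' hu)]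
    have h1 : cm b' u ∈ B := by
      have h2 := conj_mem_of_mem (hCB (D.UC hu)) (inv_mem hb2)
      have e1 : cm b' u = b' * (u * b'⁻¹ * u⁻¹) := by rw [cm_def]; group
      rw [e1]
      exact mul_mem hb2 h2
    have h3 : cm b (cm b' u) = 1 := cm_eq_one.2 (mem_centralizer_iff.1 (hBB hb1) _ h1).symm
    rw [h3]
    exact one_mem _
  norm := by
    rintro t _ hte _ hv _ ⟨⟨b, hbH⟩, hb, rfl⟩
    have hb1 : b ∈ B := hb
    obtain ⟨w, hwH, hw, rfl⟩ := mem_VV.1 hv
    refine ⟨⟨w * b * w⁻¹, mul_mem (mul_mem hwH hbH) (inv_mem hwH)⟩, ?_, ?_⟩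
    · exact conj_mem_of_mem (hCB (D.VG_le_CZ_of Q hte hw)) hb1
    · rw [← map_mul, ← map_inv, ← map_mul]
      rfl
  fixe := by
    rintro _ ⟨⟨b, hbH⟩, hb, rfl⟩ x hx
    have hb1 : b ∈ B := hb
    obtain ⟨z, hz, rfl⟩ := (Q.mem_img D.ZU).1 hx
    rw [D.smul_eq_iff Q hbH (D.ZU hz)]
    have h1 : b ∈ CZ (S : Subgroup G) := (Cfsg.Agent.MinSimple.VModule.o2_le _) (hB hb1)
    have h2 : cm b z = 1 := cm_eq_one.2 (mem_centralizer_iff.1 h1 z hz).symm
    rw [h2]
    exact one_mem _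

/-- an element of `VV e` is the image of an element of `V` -/
theorem reg_mem (O : Out (Pt π (S : Subgroup G) H) (VV ρ π (S : Subgroup G) P) (img π (zc (S : Subgroup G))))
    {v : Γ} (hv : v ∈ VV ρ π (S : Subgroup G) P (img π (zc (S : Subgroup G)))) :
    ∃ a ∈ zl (S : Subgroup G) P, ∃ ha : a ∈ H, v = ρ ⟨a, ha⟩ := by
  have hF := D.frame Q
  have he := D.pt_e Q
  have h1 : MulAut.conj (1 : G) • zl (S : Subgroup G) P = zl (S : Subgroup G) P := by rw [map_one, one_smul]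
  have h1z : MulAut.conj (1 : G) • zc (S : Subgroup G) = zc (S : Subgroup G) := by rw [map_one, one_smul]
  have hV : ∀ a ∈ zl (S : Subgroup G) P, ∀ ha : a ∈ H,
      ρ ⟨a, ha⟩ ∈ VV ρ π (S : Subgroup G) P (img π (zc (S : Subgroup G))) := fun a ha haH => by
    have h2 := conj_le_VG (π := π) (S := (S : Subgroup G)) (P := P) (one_mem H)
    rw [h1, h1z] at h2
    exact mem_VV.2 ⟨a, haH, h2 ha, rfl⟩
  -- `u ∈ U - Y`
  obtain ⟨u, hu, huY⟩ : ∃ u ∈ zl (S : Subgroup G) H, u ∉ MulAut.conj (1 : G) • Yy (S : Subgroup G) P H := by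
    by_contra hcon
    push Not at hcon
    refine D.ne (comm_symm fun u hu => ?_)
    have h2 := hcon u hu
    rw [map_one, one_smul] at h2
    exact (mem_inf.1 h2).2
  -- some element of `V` outside of `Z`
  have hux : π u ∉ RBig.Pts.Yx (VV ρ π (S : Subgroup G) P) (img π (zc (S : Subgroup G))) := by
    intro h2
    obtain ⟨z, hz, hzF⟩ := D.Z_not_F (one_mem H)
    obtain ⟨a, ha, hc⟩ := D.exists_cm (one_mem H) hu huY hz
    rw [h1] at ha
    have haH := D.VH ha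
    have h3 := h2 _ (hV a ha haH)
    rw [D.smul_eq_iff Q haH hu] at h3
    have h4 : z ∈ Rr (S : Subgroup G) P H := by
      have h5 : cm a u * z ∈ Rr (S : Subgroup G) P H := by
        rw [← D.R_inf_Z] at hc
        exact (mem_inf.1 hc).1
      have h6 := mul_mem (inv_mem h3) h5
      rwa [inv_mul_cancel_left] at h6
    exact hzF (D.R_inf (one_mem H) h4 hz)
  obtain ⟨hreg1, hreg2⟩ := O.reg hF he hux
  -- `v • π u = π u + π z`
  have h3 : v • π u + π u ∈ img π (zc (S : Subgroup G)) := hF.map _ he v hv _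
  obtain ⟨z, hz, hzv⟩ := (Q.mem_img D.ZU).1 h3
  obtain ⟨a, ha, hc⟩ := D.exists_cm (one_mem H) hu huY (w := z) (by rwa [h1z])
  rw [h1] at ha
  have haH := D.VH ha
  refine ⟨a, ha, haH, ?_⟩
  have h4 : ρ ⟨a, haH⟩ • π u + π u = π z := by
    rw [D.smul_add Q haH hu]
    have h5 : cm a u * z ∈ Rr (S : Subgroup G) P H := by
      rw [← D.R_inf_Z] at hc
      exact (mem_inf.1 hc).1
    have hcU := D.cm_mem_U Q haH hu
    rw [Q.eq_iff hcU (D.ZU hz), D.inv_U (D.ZU hz)]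
    exact h5
  have h5 : ρ ⟨a, haH⟩ • π u = v • π u := by
    have h6 : ρ ⟨a, haH⟩ • π u + π u = v • π u + π u := by rw [h4, hzv]
    exact add_right_cancel h6
  have h6 := hreg2 (v⁻¹ * ρ ⟨a, haH⟩) (mul_mem (inv_mem hv) (hV a ha haH)) (by
    rw [mul_smul, h5, inv_smul_smul])
  rw [inv_mul_eq_one] at h6
  exact h6

/-- **(Q)** -/
theorem qp [Finite M] (O : Out (Pt π (S : Subgroup G) H) (VV ρ π (S : Subgroup G) P) (img π (zc (S : Subgroup G)))) :
    End.QP (S : Subgroup G) P H := by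
  intro B hB hCB hBB b hb
  have hQ := D.quad Q hB hCB hBB
  have hF := D.frame Q
  have he := D.pt_e Q
  have hbC : b ∈ CZ (S : Subgroup G) := (Cfsg.Agent.MinSimple.VModule.o2_le _) (hB hb)
  have hbH := D.CH hbC
  obtain ⟨v, hv, h1⟩ := hQ.main O hF he (b := ρ ⟨b, hbH⟩) ⟨⟨b, hbH⟩, hb, rfl⟩
  obtain ⟨a, ha, haH, rfl⟩ := D.reg_mem Q O hv
  have h2 : ∀ x ∈ zl (S : Subgroup G) H, cm (b * a⁻¹) x ∈ Rr (S : Subgroup G) P H := by
    intro x hx
    have hbaH : b * a⁻¹ ∈ H := mul_mem hbH (inv_mem haH)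
    rw [← D.smul_eq_iff Q hbaH hx]
    have h3 : ρ ⟨b * a⁻¹, hbaH⟩ = ρ ⟨b, hbH⟩ * (ρ ⟨a, haH⟩)⁻¹ := by
      rw [← map_inv, ← map_mul]
      rfl
    rw [h3, mul_smul, h1, smul_inv_smul]
  have h3 := D.tr_C (mul_mem hbC (inv_mem (D.VC ha))) h2
  have h4 : b * a⁻¹ ∈ centralizer (zl (S : Subgroup G) H : Set G) :=
    mem_centralizer_iff.2 fun x hx => (cm_eq_one.1 (h3 x hx)).symm
  have h5 : b = b * a⁻¹ * a := by group
  rw [h5]
  exact mul_mem (mem_sup_right h4) (mem_sup_left ha)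

end HypQ

end Cfsg.Agent.Omega.NOThreeL.RA
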