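import Cfsg.Agent.Omega.NOThreeL.RA.Pair

/-!
# NO-3L, `R ∩ (A)`, one natural factor, `|Z/E| = q` (#19087): `U` induces the full root group

`HypQ0 e S P H` : `HypQ` without `up2` : the elements of `U = U_H` act on `V / E` as `up b`, for some `b`.

**`HypQ0.full`** : `HypQ0` implies `HypQ` : with an opposite pair `V^h`, `V^k`,
`q = |V/Z| ≤ |Z/F| = |Z/(Z ∩ Y^k)| ≤ |U/Y^k| = |β(U)| ≤ q`.
-/

set_option autoImplicit false
set_option linter.unusedSectionVars false

namespace Cfsg.Agent.Omega.NOThreeL.RA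

open Subgroup Cfsg Cfsg.Agent.Omega.MinPar
open Cfsg.Agent.ZN (zc zl o2)
open Cfsg.Agent.Omega.Frame Cfsg.Agent.Omega.FrameNOFF
open Cfsg.Agent.Omega.Node.NO3L Cfsg.Agent.Omega.NOThreeL.Basic
open Cfsg.Agent.Omega.NoFF.Basic (conj_conj mem_conj conj_le_iff conj_le_centralizer comm_symm comm_mono)
open Cfsg.Agent.Omega.NOThreeL.Pair (conj_eq_of_mem conj_le_normalizer zl_abel)
open Cfsg.Agent.MinSimple.VModule (zl_le zc_le_zl le_normalizer_zl zc_le o2_isPGroup le_normalizer_o2 le_o2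
  normalizer_le_normalizer_zc)
open Cfsg.Agent.Omega.NOThreeL (mem_normalizer_of_conj_eq le_normalizer_of mem_sup_of_comm)
open Cfsg.Agent.Omega.NOThreeL.RTools (cm cm_def cm_mul NN conj_mem_of_mem conj_le_NN le_NN NN_le le_normalizer_NN
  le_sup_inf isLong)
open Cfsg.Agent.Omega.NOThreeL.AOne (Act ap_up_0)
open Cfsg.Agent.Lib.SL2Mat
open Cfsg.Agent.Omega.NatPair (ap ap_mul ap_one ap_inv_ap)
open Cfsg.Agent.Omega.NOThreeL.RA.HypQ (zcomm C_cent Fc_conj Fc_le cm_eq_one conj_cm conjZ_le_V relIndex_F_conj)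
open scoped Pointwise commutatorElement

universe u

variable {G : Type u} [Group G]

/-- `HypQ` without `up2`. -/
structure HypQ0 [Finite G] {F : Type} [Field F] (e : G → Fin 2 → F) (S : Sylow 2 G) (P H : Subgroup G) : Prop where
  hc : IsCharacteristicTwoType G
  data : Data (S : Subgroup G)
  par : IsParS (S : Subgroup G) P
  long : IsLong (S : Subgroup G) H
  ne : ¬ zl (S : Subgroup G) P ≤ centralizer (zl (S : Subgroup G) H : Set G)
  min : ∀ H₁ : Subgroup G, IsLong (S : Subgroup G) H₁ → H₁ ≤ H → H₁ ≠ H →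
    zl (S : Subgroup G) P ≤ centralizer (zl (S : Subgroup G) H₁ : Set G)
  mul : ∀ v ∈ zl (S : Subgroup G) P, ∀ w ∈ zl (S : Subgroup G) P, e (v * w) = e v + e w
  surj : ∀ x : Fin 2 → F, ∃ v ∈ zl (S : Subgroup G) P, e v = x
  ker : ∀ v ∈ zl (S : Subgroup G) P, e v = 0 ↔ v ∈ zc (S : Subgroup G) ⊓ centralizer (P : Set G)
  line : ∀ v ∈ zl (S : Subgroup G) P, e v 1 = 0 ↔ v ∈ zc (S : Subgroup G)
  lift : ∀ A : Matrix.SpecialLinearGroup (Fin 2) F, ∃ g ∈ P, Act e (zl (S : Subgroup G) P) g A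
  up1 : ∀ u ∈ zl (S : Subgroup G) H, ∃ b, Act e (zl (S : Subgroup G) P) u (up b)
  cent : ∀ g ∈ P, Act e (zl (S : Subgroup G) P) g 1 → g ∈ centralizer (zl (S : Subgroup G) P : Set G)

namespace HypQ0

variable [Finite G] {F : Type} [Field F] {e : G → Fin 2 → F} {S : Sylow 2 G} {P H : Subgroup G} (D : HypQ0 e S P H)
include D

theorem commV {x y : G} (hx : x ∈ zl (S : Subgroup G) P) (hy : y ∈ zl (S : Subgroup G) P) : x * y = y * x :=
  mem_centralizer_iff.mp ((zl_abel D.hc S D.par.isLoc).1 hy) x hx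

theorem sqV {x : G} (hx : x ∈ zl (S : Subgroup G) P) : x * x = 1 := by
  have h := (zl_abel D.hc S D.par.isLoc).2 x hx
  rwa [pow_two] at h

theorem commU {x y : G} (hx : x ∈ zl (S : Subgroup G) H) (hy : y ∈ zl (S : Subgroup G) H) : x * y = y * x :=
  mem_centralizer_iff.mp ((zl_abel D.hc S D.long.loc).1 hy) x hx

theorem sqU {x : G} (hx : x ∈ zl (S : Subgroup G) H) : x * x = 1 := by
  have h := (zl_abel D.hc S D.long.loc).2 x hx
  rwa [pow_two] at h

theorem SH : (S : Subgroup G) ≤ H := D.long.loc.le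

theorem SP : (S : Subgroup G) ≤ P := D.par.le

theorem VS : zl (S : Subgroup G) P ≤ (S : Subgroup G) := IsParS.zl_le_S D.hc D.par

theorem US : zl (S : Subgroup G) H ≤ (S : Subgroup G) := IsLong.zl_le_S D.hc D.long

theorem CH : CZ (S : Subgroup G) ≤ H := D.long.cz

theorem ZU : zc (S : Subgroup G) ≤ zl (S : Subgroup G) H := zc_le_zl _ _

theorem ZV : zc (S : Subgroup G) ≤ zl (S : Subgroup G) P := zc_le_zl _ _

theorem ZS : zc (S : Subgroup G) ≤ (S : Subgroup G) := zc_le _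

theorem VH : zl (S : Subgroup G) P ≤ H := D.VS.trans D.SH

theorem HU : H ≤ normalizer (zl (S : Subgroup G) H : Set G) := le_normalizer_zl _ _

theorem PV : P ≤ normalizer (zl (S : Subgroup G) P : Set G) := le_normalizer_zl _ _

/-- `O₂(H)` centralises `U` -/
theorem o2_cent : o2 H ≤ centralizer (zl (S : Subgroup G) H : Set G) :=
  Cfsg.Agent.MinSimple.VModule.o2_le_centralizer_zl D.long.loc.le S.isPGroup'
    (MinSimple.Basic.not_dvd_relIndex S D.long.loc.le) (D.long.loc.char2 S D.hc)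


theorem NN_le_H : NN (S : Subgroup G) P H ≤ H := NN_le fun x hx => by
  have h1 := conj_le_iff (g := x).2 D.VH
  rwa [conj_eq_of_mem (Subgroup.le_normalizer hx)] at h1

theorem C_norm_NN : CZ (S : Subgroup G) ≤ normalizer (NN (S : Subgroup G) P H : Set G) :=
  D.CH.trans (le_normalizer_NN _ _ _)

/-- **(0)** `H = N C` -/
theorem le_sup : H ≤ NN (S : Subgroup G) P H ⊔ CZ (S : Subgroup G) := by
  by_contra hcon
  set H₁ := NN (S : Subgroup G) P H ⊔ CZ (S : Subgroup G) with hH1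
  have hle : H₁ ≤ H := sup_le D.NN_le_H D.CH
  have hne : H₁ ≠ H := fun h => hcon (by rw [h])
  have hl : IsLong (S : Subgroup G) H₁ :=
    ⟨D.long.loc.of_le S ((le_CZ S).trans le_sup_right) hle, le_sup_right⟩
  have h1 := D.min H₁ hl hle hne
  have h2 : zl (S : Subgroup G) P ≤ o2 H₁ := le_o2_of_comm (D.data.low P D.par) hl h1
  -- `V ≤ O₂(N) ≤ O₂(H)`
  have h3 : zl (S : Subgroup G) P ≤ o2 (NN (S : Subgroup G) P H) := by
    have h4 : o2 H₁ ⊓ NN (S : Subgroup G) P H ≤ o2 (NN (S : Subgroup G) P H) := by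
      refine le_o2 inf_le_right ((o2_isPGroup _).to_le inf_le_left) ?_
      intro g hg
      have h5 := le_normalizer_o2 H₁ ((le_sup_left : NN (S : Subgroup G) P H ≤ H₁) hg)
      rw [mem_normalizer_iff] at h5 ⊢
      intro x
      rw [mem_inf, mem_inf, h5 x, mem_normalizer_iff.mp (Subgroup.le_normalizer hg) x]
    exact (le_inf h2 (le_NN _ _ _)).trans h4
  have h6 : o2 (NN (S : Subgroup G) P H) ≤ o2 H := by
    refine le_o2 ((Cfsg.Agent.MinSimple.VModule.o2_le _).trans D.NN_le_H) (o2_isPGroup _) ?_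
    refine (le_normalizer_NN (S : Subgroup G) P H).trans ?_
    exact Cfsg.Agent.Omega.normalizer_le_normalizer_o2' _
  exact D.ne ((h3.trans h6).trans D.o2_cent)

theorem exists_nc {h : G} (hh : h ∈ H) : ∃ n ∈ NN (S : Subgroup G) P H, ∃ c ∈ CZ (S : Subgroup G), h = n * c := by
  have h1 : h ∈ ((NN (S : Subgroup G) P H ⊔ CZ (S : Subgroup G) : Subgroup G) : Set G) := D.le_sup hh
  rw [coe_mul_of_right_le_normalizer_left _ _ D.C_norm_NN] at h1
  obtain ⟨n, hn, c, hc, rfl⟩ := Set.mem_mul.mp h1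
  exact ⟨n, hn, c, hc, rfl⟩

/-- **(0)** : no `1 ≠ z ∈ E` is centralised by `N`. -/
theorem not_cent {z : G} (hz : z ∈ zc (S : Subgroup G)) (hzP : z ∈ centralizer (P : Set G))
    (hzN : z ∈ centralizer (NN (S : Subgroup G) P H : Set G)) : z = 1 := by
  by_contra hz1
  have hL : IsLong (S : Subgroup G) (centralizer ({z} : Set G)) := isLong S hz hz1
  have hHz : H ≤ centralizer ({z} : Set G) := by
    intro h hh
    obtain ⟨n, hn, c, hc, rfl⟩ := D.exists_nc hh
    refine mul_mem ?_ (hL.cz hc)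
    rw [mem_centralizer_iff]
    rintro _ rfl
    exact (mem_centralizer_iff.mp hzN n hn).symm
  have hPz : P ≤ centralizer ({z} : Set G) := by
    intro p hp
    rw [mem_centralizer_iff]
    rintro _ rfl
    exact (mem_centralizer_iff.mp hzP p hp).symm
  have h1 : zl (S : Subgroup G) P ≤ zl (S : Subgroup G) (centralizer ({z} : Set G)) :=
    zl_le (zc_le_zl _ _) (hPz.trans (le_normalizer_zl _ _))
  have h2 : zl (S : Subgroup G) H ≤ zl (S : Subgroup G) (centralizer ({z} : Set G)) :=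
    zl_le (zc_le_zl _ _) (hHz.trans (le_normalizer_zl _ _))
  exact D.ne (comm_mono (zl_abel D.hc S hL.loc).1 h1 h2)


/-- `R ∩ Z = F` -/
theorem R_inf_Z : Rr (S : Subgroup G) P H ⊓ zc (S : Subgroup G) = Fc (S : Subgroup G) H := by
  apply le_antisymm
  · intro x hx
    obtain ⟨hx1, hx2⟩ := mem_inf.mp hx
    refine mem_inf.mpr ⟨hx2, ?_⟩
    rw [mem_centralizer_iff]
    intro h hh
    obtain ⟨n, hn, c, hc, rfl⟩ := D.exists_nc hh
    have h1 := mem_centralizer_iff.mp (mem_inf.mp hx1).2 n hn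
    have h2 : c * x = x * c := (mem_centralizer_iff.mp hc x hx2).symm
    calc n * c * x = n * (c * x) := by group
      _ = (n * x) * c := by rw [h2]; group
      _ = x * (n * c) := by rw [h1]; group
  · intro x hx
    obtain ⟨hx1, hx2⟩ := mem_inf.mp hx
    exact mem_inf.mpr ⟨mem_inf.mpr ⟨D.ZU hx1, centralizer_le D.NN_le_H hx2⟩, hx1⟩

theorem HR : H ≤ normalizer (Rr (S : Subgroup G) P H : Set G) := by
  refine le_normalizer_of fun h hh x hx => mem_inf.mpr ⟨conj_mem_of_mem (D.HU hh) (mem_inf.mp hx).1, ?_⟩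
  rw [mem_centralizer_iff]
  intro y hy
  have hy' : h⁻¹ * y * h ∈ NN (S : Subgroup G) P H := by
    have h1 := conj_mem_of_mem (le_normalizer_NN (S : Subgroup G) P H (inv_mem hh)) hy
    rwa [inv_inv] at h1
  have h1 := mem_centralizer_iff.mp (mem_inf.mp hx).2 _ hy'
  calc y * (h * x * h⁻¹) = h * ((h⁻¹ * y * h) * x) * h⁻¹ := by group
    _ = h * (x * (h⁻¹ * y * h)) * h⁻¹ := by rw [h1]
    _ = h * x * h⁻¹ * y := by group

theorem RU : Rr (S : Subgroup G) P H ≤ zl (S : Subgroup G) H := inf_le_left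

/-- `R ∩ Z^h = F` -/
theorem R_inf {h : G} (hh : h ∈ H) {x : G} (hx : x ∈ Rr (S : Subgroup G) P H)
    (hz : x ∈ MulAut.conj h • zc (S : Subgroup G)) : x ∈ Fc (S : Subgroup G) H := by
  rw [mem_conj] at hz
  have h1 : h⁻¹ * x * h ∈ Rr (S : Subgroup G) P H := by
    have h2 := conj_mem_of_mem (D.HR (inv_mem hh)) hx
    rwa [inv_inv] at h2
  have h2 : h⁻¹ * x * h ∈ Fc (S : Subgroup G) H := by
    rw [← D.R_inf_Z]
    exact mem_inf.mpr ⟨h1, hz⟩
  have h3 := Fc_conj h2 hh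
  have e1 : h * (h⁻¹ * x * h) * h⁻¹ = x := by group
  rw [e1] at h3
  rw [h3]
  exact h2


/-- **(MIN)** `x ∈ Z^h - F` implies `V^h ≤ O₂(C_H(x))`. -/
theorem min_o2 {h x : G} (hh : h ∈ H) (hx : x ∈ MulAut.conj h • zc (S : Subgroup G)) (hxF : x ∉ Fc (S : Subgroup G) H) :
    MulAut.conj h • zl (S : Subgroup G) P ≤ o2 (H ⊓ centralizer ({x} : Set G)) := by
  rw [mem_conj] at hx
  set y := h⁻¹ * x * h with hy
  have e1 : x = h * y * h⁻¹ := by rw [hy]; group
  have hyF : y ∉ Fc (S : Subgroup G) H := by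
    intro h1
    apply hxF
    rw [e1, Fc_conj h1 hh]
    exact h1
  have hy1 : y ≠ 1 := fun h1 => hyF (h1 ▸ one_mem _)
  have hl0 := isLong S hx hy1
  have hl : IsLong (S : Subgroup G) (H ⊓ centralizer ({y} : Set G)) :=
    ⟨hl0.loc.of_le S (le_inf D.SH hl0.loc.le) inf_le_right, le_inf D.CH hl0.cz⟩
  have hne : H ⊓ centralizer ({y} : Set G) ≠ H := by
    intro h1
    apply hyF
    refine mem_inf.mpr ⟨hx, ?_⟩
    rw [mem_centralizer_iff]
    intro k hk
    exact (mem_centralizer_iff.mp ((inf_eq_left.mp h1) hk) y rfl).symm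
  have h2 : zl (S : Subgroup G) P ≤ o2 (H ⊓ centralizer ({y} : Set G)) :=
    le_o2_of_comm (D.data.low P D.par) hl (D.min _ hl inf_le_left hne)
  have h3 := (conj_le_iff (g := h)).2 h2
  rw [← show o2 (MulAut.conj h • (H ⊓ centralizer ({y} : Set G))) = MulAut.conj h • o2 (H ⊓ centralizer ({y} : Set G)) from o2_map_equiv (MulAut.conj h) _] at h3
  have e2 : MulAut.conj h • (H ⊓ centralizer ({y} : Set G)) = H ⊓ centralizer ({x} : Set G) := by
    rw [Subgroup.smul_inf, conj_eq_of_mem (Subgroup.le_normalizer hh)]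
    congr 1
    ext g
    rw [mem_conj, mem_centralizer_singleton_iff, mem_centralizer_singleton_iff, e1]
    constructor
    · intro h4
      calc g * (h * y * h⁻¹) = h * ((h⁻¹ * g * h) * y) * h⁻¹ := by group
        _ = h * (y * (h⁻¹ * g * h)) * h⁻¹ := by rw [h4]
        _ = (h * y * h⁻¹) * g := by group
    · intro h4
      calc (h⁻¹ * g * h) * y = h⁻¹ * (g * (h * y * h⁻¹)) * h := by group
        _ = h⁻¹ * ((h * y * h⁻¹) * g) * h := by rw [h4]
        _ = y * (h⁻¹ * g * h) := by group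
  rwa [e2] at h3



theorem e_one : e 1 = 0 := by
  have h := D.mul 1 (one_mem _) 1 (one_mem _)
  rw [mul_one] at h
  exact left_eq_add.mp h

theorem e_self {v : G} (hv : v ∈ zl (S : Subgroup G) P) : e v + e v = 0 := by
  rw [← D.mul v hv v hv, D.sqV hv, D.e_one]

theorem inv_V {v : G} (hv : v ∈ zl (S : Subgroup G) P) : v⁻¹ = v := inv_eq_of_mul_eq_one_left (D.sqV hv)

theorem inv_U {v : G} (hv : v ∈ zl (S : Subgroup G) H) : v⁻¹ = v := inv_eq_of_mul_eq_one_left (D.sqU hv)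

theorem two_eq (x : F) : x + x = 0 := by
  obtain ⟨v, hv, h⟩ := D.surj ![x, 0]
  have h1 := congrFun (D.e_self hv) 0
  rw [h] at h1
  exact h1

theorem e_cm {v u : G} {b : F} (hv : v ∈ zl (S : Subgroup G) P) (hu : u ∈ P)
    (h : Act e (zl (S : Subgroup G) P) u (up b)) : e (cm v u) = ![b * e v 1, 0] := by
  have e1 : cm v u = v * (u * v * u⁻¹) := by
    rw [cm_def]
    calc v * u * v⁻¹ * u⁻¹ = v * (u * v⁻¹ * u⁻¹) := by group
      _ = v * (u * v * u⁻¹) := by rw [D.inv_V hv]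
  rw [e1, D.mul v hv _ (conj_mem_of_mem (D.PV hu) hv), h v hv]
  funext i
  fin_cases i
  · change e v 0 + ap (up b) (e v) 0 = b * e v 1
    rw [ap_up_0, ← add_assoc, D.two_eq, zero_add]
  · change e v 1 + ap (up b) (e v) 1 = 0
    rw [ap_up_1, D.two_eq]

theorem cm_VP {v u : G} (hv : v ∈ zl (S : Subgroup G) P) (hu : u ∈ P) : cm v u ∈ zl (S : Subgroup G) P := by
  have e1 : cm v u = v * (u * v⁻¹ * u⁻¹) := by rw [cm_def]; group
  rw [e1]
  exact mul_mem hv (conj_mem_of_mem (D.PV hu) (inv_mem hv))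

theorem UP : zl (S : Subgroup G) H ≤ P := D.US.trans D.SP

/-- `[V, U] ≤ Z` -/
theorem VU_Z {v u : G} (hv : v ∈ zl (S : Subgroup G) P) (hu : u ∈ zl (S : Subgroup G) H) :
    cm v u ∈ zc (S : Subgroup G) := by
  obtain ⟨b, hb⟩ := D.up1 u hu
  rw [← D.line _ (D.cm_VP hv (D.UP hu)), D.e_cm hv (D.UP hu) hb]
  rfl

/-- the root coordinate of `U` -/
theorem exists_beta : ∃ β : G → F, (∀ u ∈ zl (S : Subgroup G) H, Act e (zl (S : Subgroup G) P) u (up (β u))) ∧
    (∀ u ∈ zl (S : Subgroup G) H, ∀ w ∈ zl (S : Subgroup G) H, β (u * w) = β u + β w) ∧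
    ∀ u ∈ zl (S : Subgroup G) H, β u = 0 ↔ u ∈ Yy (S : Subgroup G) P H := by
  classical
  obtain ⟨v1, hv1, he1⟩ := D.surj ![0, 1]
  have he : e v1 1 = 1 := by rw [he1]; rfl
  have huniq : ∀ u ∈ zl (S : Subgroup G) H, ∀ b b', Act e (zl (S : Subgroup G) P) u (up b) →
      Act e (zl (S : Subgroup G) P) u (up b') → b = b' := by
    intro u hu b b' h1 h2
    have h3 := congrFun (D.e_cm hv1 (D.UP hu) h1) 0
    rw [D.e_cm hv1 (D.UP hu) h2, he, mul_one, mul_one] at h3
    exact h3.symm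
  choose! β hβ using D.up1
  refine ⟨β, hβ, ?_, ?_⟩
  · intro u hu w hw
    refine huniq _ (mul_mem hu hw) _ _ (hβ _ (mul_mem hu hw)) ?_
    rw [← up_mul]
    exact (hβ u hu).mul (hβ w hw) (D.PV (D.UP hw))
  · intro u hu
    constructor
    · intro h
      refine mem_inf.mpr ⟨hu, D.cent u (D.UP hu) ?_⟩
      have h1 := hβ u hu
      rwa [h, up_zero] at h1
    · intro h
      refine huniq u hu _ _ (hβ u hu) ?_
      rw [up_zero]
      intro v hv
      rw [ap_one]
      congr 1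
      rw [← mem_centralizer_iff.mp (mem_inf.mp h).2 v hv, mul_inv_cancel_right]

theorem ZV_P {v : G} (hv : v ∈ zc (S : Subgroup G)) : e v 1 = 0 := (D.line v (D.ZV hv)).mpr hv

/-- `[v, u] ∈ E` only if `v ∈ Z` or `u ∈ Y` -/
theorem cm_E {v u : G} (hv : v ∈ zl (S : Subgroup G) P) (hu : u ∈ zl (S : Subgroup G) H)
    (h : cm v u ∈ centralizer (P : Set G)) : v ∈ zc (S : Subgroup G) ∨ u ∈ Yy (S : Subgroup G) P H := by
  obtain ⟨β, h1, h2, h3⟩ := D.exists_beta
  have h5 : e (cm v u) = 0 := (D.ker _ (D.cm_VP hv (D.UP hu))).mpr (mem_inf.mpr ⟨D.VU_Z hv hu, h⟩)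
  rw [D.e_cm hv (D.UP hu) (h1 u hu)] at h5
  have h6 : β u * e v 1 = 0 := congrFun h5 0
  rcases mul_eq_zero.mp h6 with h | h
  · exact Or.inr ((h3 u hu).mp h)
  · exact Or.inl ((D.line v hv).mp h)

theorem cm_one {v u : G} (hv : v ∈ zl (S : Subgroup G) P) (hu : u ∈ zl (S : Subgroup G) H)
    (h : cm v u = 1) : v ∈ zc (S : Subgroup G) ∨ u ∈ Yy (S : Subgroup G) P H :=
  D.cm_E hv hu (h ▸ one_mem _)


theorem relIndex_ZV : (zc (S : Subgroup G)).relIndex (zl (S : Subgroup G) P) = Nat.card F := by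
  refine relIndex_of_map (fun v => e v 1) (fun a ha b hb => congrFun (D.mul a ha b hb) 1) D.line fun x => ?_
  obtain ⟨v, hv, h⟩ := D.surj ![0, x]
  exact ⟨v, hv, by rw [h]; rfl⟩

theorem U_conj {h u : G} (hh : h ∈ H) (hu : u ∈ zl (S : Subgroup G) H) : h⁻¹ * u * h ∈ zl (S : Subgroup G) H := by
  have h1 := conj_mem_of_mem (D.HU (inv_mem hh)) hu
  rwa [inv_inv] at h1

theorem conjU {h : G} (hh : h ∈ H) : MulAut.conj h • zl (S : Subgroup G) H = zl (S : Subgroup G) H :=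
  conj_eq_of_mem (D.HU hh)

/-- `[V^h, U] ≤ Z^h` -/
theorem cm_conj {h a u : G} (hh : h ∈ H) (ha : a ∈ MulAut.conj h • zl (S : Subgroup G) P)
    (hu : u ∈ zl (S : Subgroup G) H) : cm a u ∈ MulAut.conj h • zc (S : Subgroup G) := by
  rw [mem_conj] at ha ⊢
  rw [conj_cm]
  exact D.VU_Z ha (D.U_conj hh hu)

theorem conjZ_le {h : G} (hh : h ∈ H) : MulAut.conj h • zc (S : Subgroup G) ≤ zl (S : Subgroup G) H := by
  have h1 := (conj_le_iff (g := h)).2 D.ZU
  rwa [D.conjU hh] at h1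

theorem conjY_le {h : G} (hh : h ∈ H) : MulAut.conj h • Yy (S : Subgroup G) P H ≤ zl (S : Subgroup G) H := by
  have h1 := (conj_le_iff (g := h)).2 (inf_le_left : Yy (S : Subgroup G) P H ≤ zl (S : Subgroup G) H)
  rwa [D.conjU hh] at h1

theorem conjV_le {h : G} (hh : h ∈ H) : MulAut.conj h • zl (S : Subgroup G) P ≤ H := by
  have h1 := (conj_le_iff (g := h)).2 D.VH
  rwa [conj_eq_of_mem (Subgroup.le_normalizer hh)] at h1

/-- `C_U(a) = Y^h` for `a ∈ V^h - Z^h` -/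
theorem mem_Y_of_comm {h a u : G} (hh : h ∈ H) (ha : a ∈ MulAut.conj h • zl (S : Subgroup G) P)
    (ha' : a ∉ MulAut.conj h • zc (S : Subgroup G)) (hu : u ∈ zl (S : Subgroup G) H) (hc : a * u = u * a) :
    u ∈ MulAut.conj h • Yy (S : Subgroup G) P H := by
  rw [mem_conj] at ha ha' ⊢
  rcases D.cm_one ha (D.U_conj hh hu) (by
    rw [← conj_cm, cm_eq_one.mpr hc, mul_one, inv_mul_cancel]) with h1 | h1
  · exact absurd h1 ha'
  · exact h1

theorem Y_comm {h a u : G} (ha : a ∈ MulAut.conj h • zl (S : Subgroup G) P)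
    (hu : u ∈ MulAut.conj h • Yy (S : Subgroup G) P H) : a * u = u * a := by
  rw [mem_conj] at ha hu
  have h1 := mem_centralizer_iff.mp (mem_inf.mp hu).2 _ ha
  calc a * u = h * ((h⁻¹ * a * h) * (h⁻¹ * u * h)) * h⁻¹ := by group
    _ = h * ((h⁻¹ * u * h) * (h⁻¹ * a * h)) * h⁻¹ := by rw [h1]
    _ = u * a := by group

theorem mem_Y_iff {h u : G} (hh : h ∈ H) : u ∈ MulAut.conj h • Yy (S : Subgroup G) P H ↔
    u ∈ zl (S : Subgroup G) H ∧ ∀ a ∈ MulAut.conj h • zl (S : Subgroup G) P, a * u = u * a := by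
  constructor
  · exact fun hu => ⟨D.conjY_le hh hu, fun a ha => D.Y_comm ha hu⟩
  · rintro ⟨hu, h1⟩
    rw [mem_conj]
    refine mem_inf.mpr ⟨D.U_conj hh hu, ?_⟩
    rw [mem_centralizer_iff]
    intro v hv
    have h2 := h1 (h * v * h⁻¹) (by rw [mem_conj]; have e1 : h⁻¹ * (h * v * h⁻¹) * h = v := by group
                                    rwa [e1])
    calc v * (h⁻¹ * u * h) = h⁻¹ * ((h * v * h⁻¹) * u) * h := by group
      _ = h⁻¹ * (u * (h * v * h⁻¹)) * h := by rw [h2]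
      _ = h⁻¹ * u * h * v := by group

theorem F_le_U : Fc (S : Subgroup G) H ≤ zl (S : Subgroup G) H := inf_le_left.trans D.ZU

theorem F_le_Y {h : G} (hh : h ∈ H) : Fc (S : Subgroup G) H ≤ MulAut.conj h • Yy (S : Subgroup G) P H := by
  intro x hx
  rw [D.mem_Y_iff hh]
  exact ⟨D.F_le_U hx, fun a ha => mem_centralizer_iff.mp (mem_inf.mp hx).2 a (D.conjV_le hh ha)⟩

theorem comm_of_F_one {z x : G} (hz : z ∈ zc (S : Subgroup G)) (hx : x ∈ H)
    (h : cm x z ∈ Fc (S : Subgroup G) H) : x * z = z * x := by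
  have : Fact (Nat.Prime 2) := ⟨Nat.prime_two⟩
  have hmul : ∀ {x y : G}, x ∈ H → cm y z ∈ Fc (S : Subgroup G) H → cm (x * y) z = cm x z * cm y z := by
    intro x y hx hy
    have e1 : cm (x * y) z = (x * cm y z * x⁻¹) * cm x z := by simp only [cm_def]; group
    have h2 := mem_centralizer_iff.mp (mem_inf.mp hy).2
    rw [e1, Fc_conj hy hx]
    by_cases hz' : z ∈ H
    · have h3 : cm x z ∈ H := by
        rw [cm_def]
        exact mul_mem (mul_mem (mul_mem hx hz') (inv_mem hx)) (inv_mem hz')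
      exact (h2 _ h3).symm
    · exact absurd (D.SH (D.ZS hz)) hz'
  let K : Subgroup G :=
    { carrier := {x | x ∈ H ∧ cm x z ∈ Fc (S : Subgroup G) H}
      mul_mem' := by
        rintro x y ⟨hx, h1⟩ ⟨hy, h2⟩
        refine ⟨mul_mem hx hy, ?_⟩
        rw [hmul hx h2]
        exact mul_mem h1 h2
      one_mem' := ⟨one_mem _, by rw [cm_def]; simp⟩
      inv_mem' := by
        rintro x ⟨hx, h1⟩
        refine ⟨inv_mem hx, ?_⟩
        have e1 : cm x⁻¹ z = x⁻¹ * (cm x z)⁻¹ * x⁻¹⁻¹ := by simp only [cm_def]; group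
        rw [e1, Fc_conj (inv_mem h1) (inv_mem hx)]
        exact inv_mem h1 }
  let φ : K →* G := MonoidHom.mk' (fun x => cm (x : G) z) fun x y => hmul x.2.1 y.2.2
  have hSK : (S : Subgroup G) ≤ K := fun s hs => ⟨D.SH hs, by
    rw [cm_eq_one.mpr (zcomm hz hs)]; exact one_mem _⟩
  have hSk : (S : Subgroup G).subgroupOf K ≤ φ.ker := by
    rintro ⟨s, hs⟩ h1
    rw [MonoidHom.mem_ker]
    exact cm_eq_one.mpr (zcomm hz h1)
  have h1 : ¬ 2 ∣ φ.ker.index := by
    intro h2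
    have h3 : φ.ker.index ∣ ((S : Subgroup G).subgroupOf K).index := index_dvd_of_le hSk
    exact MinSimple.Basic.not_dvd_relIndex S hSK (h2.trans h3)
  have h2 : IsPGroup 2 φ.range := by
    have h3 : φ.range ≤ Fc (S : Subgroup G) H := by
      rintro _ ⟨x, rfl⟩
      exact x.2.2
    exact (S.isPGroup'.to_le ((inf_le_left : Fc (S : Subgroup G) H ≤ _).trans D.ZS)).to_le h3
  have h3 : φ.range = ⊥ := by
    obtain ⟨n, hn⟩ := IsPGroup.iff_card.mp h2
    rw [index_ker, hn] at h1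
    have hn0 : n = 0 := by
      by_contra h4
      exact h1 (dvd_pow_self 2 h4)
    rw [hn0, pow_zero] at hn
    exact Subgroup.eq_bot_of_card_eq _ hn
  have h4 : φ ⟨x, hx, h⟩ ∈ φ.range := ⟨_, rfl⟩
  rw [h3, mem_bot] at h4
  exact cm_eq_one.mp h4

/-- **(S)** -/
theorem comm_of_F {h z x : G} (hh : h ∈ H) (hz : z ∈ MulAut.conj h • zc (S : Subgroup G)) (hx : x ∈ H)
    (hF : cm x z ∈ Fc (S : Subgroup G) H) : x * z = z * x := by
  rw [mem_conj] at hz
  have h1 : cm (h⁻¹ * x * h) (h⁻¹ * z * h) ∈ Fc (S : Subgroup G) H := by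
    rw [← conj_cm]
    have h2 := Fc_conj hF (inv_mem hh)
    rw [inv_inv] at h2
    rwa [h2]
  have h2 := D.comm_of_F_one hz (mul_mem (mul_mem (inv_mem hh) hx) hh) h1
  calc x * z = h * ((h⁻¹ * x * h) * (h⁻¹ * z * h)) * h⁻¹ := by group
    _ = h * ((h⁻¹ * z * h) * (h⁻¹ * x * h)) * h⁻¹ := by rw [h2]
    _ = z * x := by group


/-- Baer–Suzuki -/
theorem exists_opp {h : G} (hh : h ∈ H) : ∃ k ∈ H, Opp (S : Subgroup G) P h k := by
  by_contra hcon
  push Not at hcon
  refine D.ne ((le_o2_of_pairs D.VH fun g hg => ?_).trans D.o2_cent)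
  have h1 : IsPGroup 2 (MulAut.conj h • zl (S : Subgroup G) P ⊔ MulAut.conj (h * g) • zl (S : Subgroup G) P : Subgroup G) := by
    have h2 := hcon (h * g) (mul_mem hh hg)
    unfold Opp at h2
    rwa [not_not] at h2
  rw [← conj_conj, ← Subgroup.smul_sup] at h1
  exact h1.of_equiv (Subgroup.equivSMul (MulAut.conj h) _).symm

/-- `Z^h ∩ Y^k = F` -/
theorem inf_F {h k : G} (hh : h ∈ H) (hk : k ∈ H) (ho : Opp (S : Subgroup G) P h k) {x : G}
    (hx : x ∈ MulAut.conj h • zc (S : Subgroup G)) (hxY : x ∈ MulAut.conj k • Yy (S : Subgroup G) P H) :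
    x ∈ Fc (S : Subgroup G) H := by
  by_contra hxF
  apply ho
  have h1 := D.min_o2 hh hx hxF
  set L := H ⊓ centralizer ({x} : Set G) with hL
  have h2 : MulAut.conj k • zl (S : Subgroup G) P ≤ L := by
    intro a ha
    refine mem_inf.mpr ⟨D.conjV_le hk ha, ?_⟩
    rw [mem_centralizer_iff]
    rintro _ rfl
    exact (D.Y_comm ha hxY).symm
  have h3 : IsPGroup 2 (MulAut.conj k • zl (S : Subgroup G) P ⊔ o2 L : Subgroup G) := by
    have : Fact (Nat.Prime 2) := ⟨Nat.prime_two⟩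
    refine IsPGroup.to_sup_of_normal_right' ?_ (o2_isPGroup _) (h2.trans (le_normalizer_o2 _))
    exact (S.isPGroup'.to_le D.VS).map _
  refine h3.to_le (sup_le (h1.trans le_sup_right) le_sup_left)

theorem inf_eq {h k : G} (hh : h ∈ H) (hk : k ∈ H) (ho : Opp (S : Subgroup G) P h k) :
    MulAut.conj h • zc (S : Subgroup G) ⊓ MulAut.conj k • Yy (S : Subgroup G) P H = Fc (S : Subgroup G) H :=
  le_antisymm (fun _ hx => D.inf_F hh hk ho (mem_inf.mp hx).1 (mem_inf.mp hx).2)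
    (le_inf (Fc_le hh) (D.F_le_Y hk))

theorem not_R {h k a z : G} (hh : h ∈ H) (hk : k ∈ H) (ho : Opp (S : Subgroup G) P h k)
    (hz : z ∈ MulAut.conj k • zc (S : Subgroup G)) (hzF : z ∉ Fc (S : Subgroup G) H)
    (ha : a ∈ MulAut.conj h • zl (S : Subgroup G) P) (haZ : a ∉ MulAut.conj h • zc (S : Subgroup G)) :
    cm a z ∉ Rr (S : Subgroup G) P H := by
  intro h1
  have hzU := D.conjZ_le hk hz
  have h2 := D.R_inf hh h1 (D.cm_conj hh ha hzU)
  have h3 := D.comm_of_F hk hz (D.conjV_le hh ha) h2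
  exact hzF (D.inf_F hk hh ho.symm hz (D.mem_Y_of_comm hh ha haZ hzU h3))

theorem Z_not_F {k : G} (hk : k ∈ H) : ∃ z ∈ MulAut.conj k • zc (S : Subgroup G), z ∉ Fc (S : Subgroup G) H := by
  by_contra hcon
  push Not at hcon
  apply D.ne
  have h1 : zc (S : Subgroup G) ≤ Fc (S : Subgroup G) H := by
    intro z hz
    have h2 := hcon (k * z * k⁻¹) (by
      rw [mem_conj]
      have e1 : k⁻¹ * (k * z * k⁻¹) * k = z := by group
      rwa [e1])
    have h3 := Fc_conj h2 (inv_mem hk)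
    have e1 : k⁻¹ * (k * z * k⁻¹) * k⁻¹⁻¹ = z := by group
    rw [e1] at h3
    rw [h3]
    exact h2
  have h2 : zl (S : Subgroup G) H ≤ zc (S : Subgroup G) := by
    refine zl_le le_rfl fun h hh => ?_
    refine mem_normalizer_of_conj_eq ?_
    refine conj_eq_of_mem (mem_normalizer_iff.mpr fun x => ?_)
    constructor
    · intro hx
      rw [Fc_conj (h1 hx) hh]
      exact hx
    · intro hx
      have h3 := Fc_conj (h1 hx) (inv_mem hh)
      have e1 : h⁻¹ * (h * x * h⁻¹) * h⁻¹⁻¹ = x := by group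
      rw [e1] at h3
      rw [h3]
      exact hx
  intro v hv
  rw [mem_centralizer_iff]
  intro u hu
  exact (zcomm (h2 hu) (D.VS hv)).symm

theorem finite_F : Finite F := by
  have h1 : (Set.range fun v : zl (S : Subgroup G) P => e v 0).Finite := Set.finite_range _
  refine Set.finite_univ_iff.mp (h1.subset fun x _ => ?_)
  obtain ⟨v, hv, h⟩ := D.surj ![x, 0]
  exact ⟨⟨v, hv⟩, by change e v 0 = x; rw [h]; rfl⟩

/-- `|V^h/Z^h| = q` -/
theorem relIndex_ZVh (h : G) :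
    (MulAut.conj h • zc (S : Subgroup G)).relIndex (MulAut.conj h • zl (S : Subgroup G) P) = Nat.card F := by
  rw [relIndex_conj, D.relIndex_ZV]

/-- the map `a ↦ [a, z]` -/
theorem cm_mul_left {h a b z : G} (hh : h ∈ H) (ha : a ∈ MulAut.conj h • zl (S : Subgroup G) P)
    (hb : b ∈ MulAut.conj h • zl (S : Subgroup G) P) (hz : z ∈ zl (S : Subgroup G) H) :
    cm (a * b) z = cm a z * cm b z := by
  have h1 := D.cm_conj hh hb hz
  have h2 : a * cm b z * a⁻¹ = cm b z := by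
    have h3 := ha
    have h4 := h1
    rw [mem_conj] at h3 h4
    have h5 := D.commV h3 (D.ZV h4)
    calc a * cm b z * a⁻¹ = h * ((h⁻¹ * a * h) * (h⁻¹ * cm b z * h)) * h⁻¹ * a⁻¹ := by group
      _ = h * ((h⁻¹ * cm b z * h) * (h⁻¹ * a * h)) * h⁻¹ * a⁻¹ := by rw [h5]
      _ = cm b z := by group
  have e1 : cm (a * b) z = (a * cm b z * a⁻¹) * cm a z := by simp only [cm_def]; group
  rw [e1, h2]
  exact D.commU (D.conjZ_le hh h1) (D.conjZ_le hh (D.cm_conj hh ha hz))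

/-- `q = |V^h/Z^h| ≤ |Z^h/F|`, from the map `a ↦ [a, z] F` -/
theorem card_ge {h k z : G} (hh : h ∈ H) (hk : k ∈ H) (ho : Opp (S : Subgroup G) P h k)
    (hz : z ∈ MulAut.conj k • zc (S : Subgroup G)) (hzF : z ∉ Fc (S : Subgroup G) H) :
    Nat.card F ≤ (Fc (S : Subgroup G) H).relIndex (MulAut.conj h • zc (S : Subgroup G)) := by
  classical
  have := D.finite_F
  have hzU := D.conjZ_le hk hz
  set A := MulAut.conj h • zl (S : Subgroup G) P with hA
  set Zh := MulAut.conj h • zc (S : Subgroup G) with hZh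
  have hFZ : Fc (S : Subgroup G) H ≤ Zh := Fc_le hh
  have hcomm : ∀ x ∈ Zh, ∀ y ∈ Zh, x * y = y * x := fun x hx y hy => D.commU (D.conjZ_le hh hx) (D.conjZ_le hh hy)
  have hn : ((Fc (S : Subgroup G) H).subgroupOf Zh).Normal := by
    refine ⟨fun x hx g => ?_⟩
    have h1 : g * x * g⁻¹ = x := Subtype.ext (by
      change (g : G) * x * (g : G)⁻¹ = x
      rw [hcomm g g.2 x x.2, mul_inv_cancel_right])
    rwa [h1]
  let f₀ : A →* Zh := MonoidHom.mk' (fun a => ⟨cm (a : G) z, D.cm_conj hh a.2 hzU⟩) fun a b =>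
    Subtype.ext (D.cm_mul_left hh a.2 b.2 hzU)
  let f : A →* Zh ⧸ ((Fc (S : Subgroup G) H).subgroupOf Zh) := (QuotientGroup.mk' _).comp f₀
  have hker : f.ker = Zh.subgroupOf A := by
    ext ⟨a, ha⟩
    rw [MonoidHom.mem_ker, mem_subgroupOf]
    have h1 : f ⟨a, ha⟩ = 1 ↔ cm a z ∈ Fc (S : Subgroup G) H := by
      change (QuotientGroup.mk (f₀ ⟨a, ha⟩) : Zh ⧸ ((Fc (S : Subgroup G) H).subgroupOf Zh)) = 1 ↔ _
      rw [QuotientGroup.eq_one_iff, mem_subgroupOf]
      rfl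
    rw [h1]
    constructor
    · intro h2
      by_contra h3
      have h4 : cm a z ∈ Rr (S : Subgroup G) P H := by
        have h5 : cm a z ∈ Rr (S : Subgroup G) P H ⊓ zc (S : Subgroup G) := by
          rw [D.R_inf_Z]; exact h2
        exact (mem_inf.mp h5).1
      exact D.not_R hh hk ho hz hzF ha h3 h4
    · intro h2
      have h3 : a * z = z * a := D.commU (D.conjZ_le hh h2) hzU
      rw [cm_eq_one.mpr h3]
      exact one_mem _
  have h1 : f.ker.index = Nat.card F := by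
    rw [hker]
    exact D.relIndex_ZVh h
  have h2 : Nat.card f.range ≤ Nat.card (Zh ⧸ ((Fc (S : Subgroup G) H).subgroupOf Zh)) :=
    Nat.card_le_card_of_injective _ Subtype.val_injective
  have h3 : Nat.card (Zh ⧸ ((Fc (S : Subgroup G) H).subgroupOf Zh)) = (Fc (S : Subgroup G) H).relIndex Zh := rfl
  rw [← index_ker, h1, h3] at h2
  exact h2

/-- **the root group is full** -/
theorem exists_up (b : F) : ∃ u ∈ zl (S : Subgroup G) H, Act e (zl (S : Subgroup G) P) u (up b) := by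
  have := D.finite_F
  obtain ⟨k, hk, ho⟩ := D.exists_opp (one_mem H)
  obtain ⟨z, hz, hzF⟩ := D.Z_not_F hk
  have h0 := D.card_ge (one_mem H) hk ho hz hzF
  rw [map_one, one_smul] at h0
  obtain ⟨β, h1, h2, h3⟩ := D.exists_beta
  let φ : zc (S : Subgroup G) →* Multiplicative F :=
    MonoidHom.mk' (fun a => Multiplicative.ofAdd (β (k⁻¹ * a * k))) fun a c => by
      rw [← ofAdd_add, ← h2 _ (D.U_conj hk (D.ZU a.2)) _ (D.U_conj hk (D.ZU c.2))]
      congr 2
      change k⁻¹ * ((a : G) * c) * k = _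
      group
  have hker : φ.ker = (Fc (S : Subgroup G) H).subgroupOf (zc (S : Subgroup G)) := by
    ext ⟨a, ha⟩
    rw [MonoidHom.mem_ker, mem_subgroupOf]
    change β (k⁻¹ * a * k) = 0 ↔ a ∈ _
    rw [h3 _ (D.U_conj hk (D.ZU ha)), ← mem_conj (g := k)]
    constructor
    · intro h5
      refine D.inf_F (one_mem H) hk ho ?_ h5
      rw [map_one, one_smul]
      exact ha
    · intro h5
      exact D.F_le_Y hk h5
  have h5 : φ.range = ⊤ := by
    have h6 : Nat.card (Multiplicative F) = Nat.card F := rfl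
    refine Subgroup.eq_top_of_card_eq _ (le_antisymm (Subgroup.card_le_card_group _) ?_)
    rw [← index_ker, hker, h6]
    exact h0
  have h6 : Multiplicative.ofAdd b ∈ φ.range := by rw [h5]; exact mem_top _
  obtain ⟨⟨a, ha⟩, h7⟩ := h6
  have h8 : β (k⁻¹ * a * k) = b := h7
  refine ⟨k⁻¹ * a * k, D.U_conj hk (D.ZU ha), ?_⟩
  have h9 := h1 _ (D.U_conj hk (D.ZU ha))
  rwa [h8] at h9

/-- **`HypQ0` implies `HypQ`.** -/
theorem full : HypQ e S P H where
  hc := D.hc
  data := D.data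
  par := D.par
  long := D.long
  ne := D.ne
  min := D.min
  mul := D.mul
  surj := D.surj
  ker := D.ker
  line := D.line
  lift := D.lift
  up1 := D.up1
  up2 := D.exists_up
  cent := D.cent

end HypQ0

end Cfsg.Agent.Omega.NOThreeL.RA
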