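import Cfsg.Agent.Omega.NOThreeL.RA.Inst
import Cfsg.Agent.Omega.NOThreeL.RA.Shape

/-!
# NO-3L, R ∩ (A), `k = 1`, `q > 2` (#19087): (0), (1), (2), (7) glued

* `HypQ.ZR` : `Z ≤ [U, V] R`;
* `HypQ.false_of_QP` : `HypQ`, `|F| > 2`, `C_Z(P) ≠ 1` and (Q) give a contradiction.
-/

set_option autoImplicit false
set_option linter.unusedSectionVars false

namespace Cfsg.Agent.Omega.NOThreeL.RA

open Subgroup Cfsg Cfsg.Agent.Omega.MinPar
open Cfsg.Agent.ZN (zc zl o2)
open Cfsg.Agent.Omega.Frame Cfsg.Agent.Omega.FrameNOFF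
open Cfsg.Agent.Omega.Node.NO3L Cfsg.Agent.Omega.NOThreeL.Basic
open Cfsg.Agent.Omega.NOThreeL.RTools (cm cm_def NN le_NN)
open Cfsg.Agent.Omega.NOThreeL.AOne (Act)
open Cfsg.Agent.Lib.SL2Mat
open Cfsg.Agent.Omega.NatPair (ap ap_mul ap_one ap_inv_ap)
open scoped Pointwise commutatorElement

universe u

variable {G : Type u} [Group G]

namespace HypQ

variable [Finite G] {F : Type} [Field F] {e : G → Fin 2 → F} {S : Sylow 2 G} {P H : Subgroup G} (D : HypQ e S P H)
include D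

/-- `Z ≤ [U, V] R` -/
theorem ZR : zc (S : Subgroup G) ≤
    ⁅zl (S : Subgroup G) H, zl (S : Subgroup G) P⁆ ⊔ Rr (S : Subgroup G) P H := by
  intro w hw
  obtain ⟨u, hu, hb⟩ := D.up2 1
  have huY : u ∉ MulAut.conj (1 : G) • Yy (S : Subgroup G) P H := by
    rw [map_one, one_smul]
    intro h
    obtain ⟨v, hv, hev⟩ := D.surj ![0, 1]
    have h1 := D.e_cm hv (D.UP hu) hb
    have h2 : cm v u = 1 := by
      rw [cm_eq_one]
      exact mem_centralizer_iff.1 (mem_inf.1 h).2 v hv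
    rw [h2, D.e_one, hev] at h1
    have h3 := congrFun h1 0
    change (0 : F) = 1 * 1 at h3
    rw [one_mul] at h3
    exact zero_ne_one h3
  obtain ⟨a, ha, haw⟩ := D.exists_cm (one_mem H) hu huY (w := w) (by rw [map_one, one_smul]; exact hw)
  rw [map_one, one_smul] at ha
  have h1 : cm a u ∈ ⁅zl (S : Subgroup G) H, zl (S : Subgroup G) P⁆ := by
    rw [commutator_comm]
    exact commutator_mem_commutator ha hu
  have h2 : w = (cm a u)⁻¹ * (cm a u * w) := by group
  rw [h2]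
  have h3 : cm a u * w ∈ Rr (S : Subgroup G) P H := by
    rw [← D.R_inf_Z] at haw
    exact (mem_inf.1 haw).1
  exact mul_mem (mem_sup_left (inv_mem h1)) (mem_sup_right h3)

/-- **#19087 modulo (Q)**. -/
theorem false_of_QP (hq : 2 < Nat.card F) (hE : zc (S : Subgroup G) ⊓ centralizer (P : Set G) ≠ ⊥)
    (hQ : End.QP (S : Subgroup G) P H) : False :=
  D.false_of D.ZR (D.shape hq hE).2 hQ

end HypQ

end Cfsg.Agent.Omega.NOThreeL.RA
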