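import Cfsg.Agent.Omega.NOThreeL.RA.Pair
import Cfsg.Agent.Omega.NOThreeL.RA.Md
import Cfsg.Agent.Omega.NOThreeL.RBig.Pts

/-!
# NO-3L, `R ∩ (A)`, `k = 1`, `q > 2` (#19087): the points of `U / R`, (3)

`Q : Md U R H ρ π` (`M = U / R`).  Points: `Pt π S H = {img Z^h}`; `VG π S P H p` = the group generated by the lines
`V^h`, `Z^h R = p`; `VV ρ π S P p` its image in `Γ`.

* `HypQ.line_of_mv`, `HypQ.opp_of_mv` : the group meaning of `Mv (VV ρ π S P) p r`;
* `HypQ.bij_group` : (3)(b);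
* **`HypQ.frame`** : `Frame ρ.range (Pt π S H) (VV ρ π S P)`.
-/

set_option autoImplicit false
set_option linter.unusedSectionVars false

namespace Cfsg.Agent.Omega.NOThreeL.RA

open Subgroup Cfsg Cfsg.Agent.Omega.MinPar
open Cfsg.Agent.ZN (zc zl o2)
open Cfsg.Agent.Omega.Frame Cfsg.Agent.Omega.FrameNOFF
open Cfsg.Agent.Omega.Node.NO3L Cfsg.Agent.Omega.NOThreeL.Basic
open Cfsg.Agent.Omega.NoFF.Basic (conj_conj mem_conj conj_le_iff conj_le_centralizer comm_symm comm_mono)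
open Cfsg.Agent.Omega.NOThreeL.Pair (conj_eq_of_mem conj_le_normalizer zl_abel)
open Cfsg.Agent.MinSimple.VModule (zl_le zc_le_zl le_normalizer_zl zc_le o2_isPGroup le_normalizer_o2 le_o2
  normalizer_le_normalizer_zc)
open Cfsg.Agent.Omega.NOThreeL (mem_normalizer_of_conj_eq le_normalizer_of mem_sup_of_comm)
open Cfsg.Agent.Omega.NOThreeL.RTools (cm cm_def cm_mul NN conj_mem_of_mem conj_le_NN le_NN NN_le le_normalizer_NN
  le_sup_inf isLong)
open Cfsg.Agent.Omega.NOThreeL.RBig.Pts (Mv Frame)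
open scoped Pointwise commutatorElement

universe u

variable {G : Type u} [Group G]

section defs

variable {H : Subgroup G} {M Γ : Type*} [AddCommGroup M] [Group Γ] [DistribMulAction Γ M]

/-- the points -/
def Pt (π : G → M) (S H : Subgroup G) : Set (AddSubgroup M) := {p | ∃ h ∈ H, img π (MulAut.conj h • zc S) = p}

/-- the group generated by the lines over `p` -/
def VG (π : G → M) (S P H : Subgroup G) (p : AddSubgroup M) : Subgroup G :=
  ⨆ (h : G) (_ : h ∈ H ∧ img π (MulAut.conj h • zc S) = p), MulAut.conj h • zl S P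

/-- its image -/
def VV (ρ : ↥H →* Γ) (π : G → M) (S P : Subgroup G) (p : AddSubgroup M) : Subgroup Γ :=
  ((VG π S P H p).subgroupOf H).map ρ

theorem mem_Pt {π : G → M} {S H : Subgroup G} {h : G} (hh : h ∈ H) : img π (MulAut.conj h • zc S) ∈ Pt π S H :=
  ⟨h, hh, rfl⟩

theorem conj_le_VG {π : G → M} {S P H : Subgroup G} {h : G} (hh : h ∈ H) :
    MulAut.conj h • zl S P ≤ VG π S P H (img π (MulAut.conj h • zc S)) :=
  le_iSup₂_of_le h ⟨hh, rfl⟩ le_rfl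

theorem VG_le {π : G → M} {S P H X : Subgroup G} {p : AddSubgroup M}
    (h : ∀ k ∈ H, img π (MulAut.conj k • zc S) = p → MulAut.conj k • zl S P ≤ X) : VG π S P H p ≤ X :=
  iSup₂_le fun k hk => h k hk.1 hk.2

end defs

/-- a `2`-element with the same image -/
theorem exists_two {Γ : Type*} [Group Γ] [Finite G] {H K : Subgroup G} (ρ : ↥H →* Γ) {w : G} (hw : w ∈ K) (hwH : w ∈ H)
    (h : ρ ⟨w, hwH⟩ * ρ ⟨w, hwH⟩ = 1) :
    ∃ w', ∃ hwH' : w' ∈ H, w' ∈ K ∧ IsPGroup 2 (zpowers w') ∧ ρ ⟨w', hwH'⟩ = ρ ⟨w, hwH⟩ := by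
  obtain ⟨a, m, hm, ho⟩ := Nat.exists_eq_two_pow_mul_odd (orderOf_pos w).ne'
  refine ⟨w ^ m, pow_mem hwH m, pow_mem hw m, ?_, ?_⟩
  · have h1 : (w ^ m) ^ 2 ^ a = 1 := by
      rw [← pow_mul, mul_comm, ← ho, pow_orderOf_eq_one]
    obtain ⟨j, -, hj⟩ := (Nat.dvd_prime_pow Nat.prime_two).1 (orderOf_dvd_of_pow_eq_one h1)
    exact IsPGroup.of_card (n := j) (by rw [Nat.card_zpowers, hj])
  · have h1 : (⟨w ^ m, pow_mem hwH m⟩ : ↥H) = ⟨w, hwH⟩ ^ m := rfl
    rw [h1, map_pow]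
    obtain ⟨j, rfl⟩ := hm
    rw [pow_succ, pow_mul, pow_two, h, one_pow, one_mul]

namespace HypQ

variable [Finite G] {F : Type} [Field F] {e : G → Fin 2 → F} {S : Sylow 2 G} {P H : Subgroup G} (D : HypQ e S P H)
  {M Γ : Type*} [AddCommGroup M] [Group Γ] [DistribMulAction Γ M] {ρ : ↥H →* Γ} {π : G → M}
include D

/-- `M = U / R` exists -/
theorem exists_md : ∃ (M : Type u) (_ : AddCommGroup M) (Γ : Type u) (_ : Group Γ) (_ : DistribMulAction Γ M)
    (ρ : ↥H →* Γ) (π : G → M), Md (zl (S : Subgroup G) H) (Rr (S : Subgroup G) P H) H ρ π :=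
  RA.exists_md D.RU (fun _ hx _ hy => D.commU hx hy) (fun _ hg _ hx => conj_mem_of_mem (D.HU hg) hx)
    (fun _ hg _ hx => conj_mem_of_mem (D.HR hg) hx)

theorem VG_le_NN (p : AddSubgroup M) : VG π (S : Subgroup G) P H p ≤ NN (S : Subgroup G) P H :=
  VG_le fun _ hk _ => conj_le_NN hk

theorem VG_le_H (p : AddSubgroup M) : VG π (S : Subgroup G) P H p ≤ H := (D.VG_le_NN p).trans D.NN_le_H

omit [Finite G] D in
theorem mem_VV {p : AddSubgroup M} {v : Γ} :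
    v ∈ VV ρ π (S : Subgroup G) P p ↔ ∃ w, ∃ hw : w ∈ H, w ∈ VG π (S : Subgroup G) P H p ∧ ρ ⟨w, hw⟩ = v := by
  constructor
  · rintro ⟨⟨w, hw⟩, h1, rfl⟩
    exact ⟨w, hw, h1, rfl⟩
  · rintro ⟨w, hw, h1, rfl⟩
    exact ⟨⟨w, hw⟩, h1, rfl⟩

/-- to be in `L` for the whole `VV p` -/
theorem VV_le {p : AddSubgroup M} {L : Subgroup Γ} (h : ∀ k ∈ H, img π (MulAut.conj k • zc (S : Subgroup G)) = p →
    ∀ a ∈ MulAut.conj k • zl (S : Subgroup G) P, ∀ ha : a ∈ H, ρ ⟨a, ha⟩ ∈ L) : VV ρ π (S : Subgroup G) P p ≤ L := by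
  have h1 : VG π (S : Subgroup G) P H p ≤ (L.comap ρ).map H.subtype := by
    refine VG_le fun k hk hp a ha => ?_
    have haH := D.conjV_le hk ha
    exact ⟨⟨a, haH⟩, h k hk hp a ha haH, rfl⟩
  intro v hv
  obtain ⟨w, hw, h2, rfl⟩ := mem_VV.1 hv
  obtain ⟨⟨w', hw'⟩, h3, h4⟩ := h1 h2
  have h5 : w' = w := h4
  subst h5
  exact h3

variable (Q : Md (zl (S : Subgroup G) H) (Rr (S : Subgroup G) P H) H ρ π)
include Q

theorem two_M (m : M) : m + m = 0 := by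
  obtain ⟨x, hx, rfl⟩ := Q.surj m
  rw [← Q.mul x hx x hx, D.sqU hx, Q.one]

/-- `g • img A = img A^g` -/
theorem smul_img {g : G} (hg : g ∈ H) {A : Subgroup G} (hA : A ≤ zl (S : Subgroup G) H) :
    ρ ⟨g, hg⟩ • img π A = img π (MulAut.conj g • A) := by
  have hA' : MulAut.conj g • A ≤ zl (S : Subgroup G) H := by
    have h1 := (conj_le_iff (g := g)).2 hA
    rwa [D.conjU hg] at h1
  ext m
  rw [RBig.Pts.mem_smul_iff, Q.mem_img hA']
  constructor
  · rintro ⟨x, hx, rfl⟩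
    obtain ⟨a, ha, rfl⟩ := (Q.mem_img hA).1 hx
    refine ⟨g * a * g⁻¹, ?_, (Q.smul hg (hA ha)).symm⟩
    rw [mem_conj]
    simpa [mul_assoc] using ha
  · rintro ⟨a, ha, rfl⟩
    rw [mem_conj] at ha
    refine ⟨π (g⁻¹ * a * g), Md.pi_mem ha, ?_⟩
    rw [Q.smul hg (hA ha)]
    congr 1
    group

theorem smul_pt {g h : G} (hg : g ∈ H) (hh : h ∈ H) :
    ρ ⟨g, hg⟩ • img π (MulAut.conj h • zc (S : Subgroup G)) = img π (MulAut.conj (g * h) • zc (S : Subgroup G)) := by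
  rw [D.smul_img Q hg (D.conjZ_le hh), conj_conj]

/-- `[w, x] ∈ R` -/
theorem smul_eq_iff {g : G} (hg : g ∈ H) {x : G} (hx : x ∈ zl (S : Subgroup G) H) :
    ρ ⟨g, hg⟩ • π x = π x ↔ cm g x ∈ Rr (S : Subgroup G) P H := by
  rw [Q.smul_eq_self hg hx, cm_def]

theorem cm_mem_U {g x : G} (hg : g ∈ H) (hx : x ∈ zl (S : Subgroup G) H) : cm g x ∈ zl (S : Subgroup G) H := by
  have e1 : cm g x = (g * x * g⁻¹) * x⁻¹ := by rw [cm_def]
  rw [e1]
  exact mul_mem (conj_mem_of_mem (D.HU hg) hx) (inv_mem hx)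

theorem smul_add {g x : G} (hg : g ∈ H) (hx : x ∈ zl (S : Subgroup G) H) :
    ρ ⟨g, hg⟩ • π x + π x = π (cm g x) := by
  have h1 : g * x * g⁻¹ = cm g x * x := (cm_mul g x).symm
  rw [Q.smul hg hx, h1, Q.mul _ (D.cm_mem_U Q hg hx) x hx, add_assoc, D.two_M Q, add_zero]

/-- `π (x h)` for elements of `Z^h` -/
theorem pi_eq_zero {h x : G} (hh : h ∈ H) (hx : x ∈ MulAut.conj h • zc (S : Subgroup G)) :
    π x = 0 ↔ x ∈ Fc (S : Subgroup G) H := by
  rw [Q.ker x (D.conjZ_le hh hx)]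
  constructor
  · intro h1
    exact D.R_inf hh h1 hx
  · intro h1
    rw [← D.R_inf_Z] at h1
    exact (mem_inf.1 h1).1

/-- the elements of `VV p` -/
theorem VV_prop {p : AddSubgroup M} {v : Γ} (hv : v ∈ VV ρ π (S : Subgroup G) P p) :
    (∀ m : M, v • m + m ∈ p) ∧ ∀ x ∈ p, v • x = x := by
  let L : Subgroup Γ :=
    { carrier := {v | (∀ m : M, v • m + m ∈ p) ∧ ∀ x ∈ p, v • x = x}
      mul_mem' := by
        rintro a b ⟨h1, h2⟩ ⟨h3, h4⟩
        refine ⟨fun m => ?_, fun x hx => by rw [mul_smul, h4 x hx, h2 x hx]⟩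
        have h5 := p.add_mem (h1 (b • m)) (h3 m)
        have e1 : a • b • m + b • m + (b • m + m) = (a * b) • m + m := by
          rw [mul_smul]
          calc a • b • m + b • m + (b • m + m) = a • b • m + (b • m + b • m) + m := by abel
            _ = a • b • m + m := by rw [D.two_M Q, add_zero]
        rwa [e1] at h5
      one_mem' := ⟨fun m => by rw [one_smul, D.two_M Q]; exact p.zero_mem, fun x _ => one_smul _ x⟩
      inv_mem' := by
        rintro a ⟨h1, h2⟩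
        refine ⟨fun m => ?_, fun x hx => by rw [inv_smul_eq_iff, h2 x hx]⟩
        have h3 := h1 (a⁻¹ • m)
        rwa [smul_inv_smul, add_comm] at h3 }
  refine D.VV_le (L := L) ?_ hv
  rintro k hk rfl a ha haH
  refine ⟨fun m => ?_, fun x hx => ?_⟩
  · obtain ⟨u, hu, rfl⟩ := Q.surj m
    rw [D.smul_add Q haH hu]
    exact Md.pi_mem (D.cm_conj hk ha hu)
  · obtain ⟨z, hz, rfl⟩ := (Q.mem_img (D.conjZ_le hk)).1 hx
    rw [D.smul_eq_iff Q haH (D.conjZ_le hk hz)]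
    have h1 : cm a z = 1 := by
      rw [cm_eq_one]
      have h2 := conjZ_le_V (P := P) k hz
      rw [mem_conj] at ha h2
      have h3 := D.commV ha h2
      calc a * z = k * ((k⁻¹ * a * k) * (k⁻¹ * z * k)) * k⁻¹ := by group
        _ = k * ((k⁻¹ * z * k) * (k⁻¹ * a * k)) * k⁻¹ := by rw [h3]
        _ = z * a := by group
    rw [h1]
    exact one_mem _

theorem VV_sq {p : AddSubgroup M} {v : Γ} (hv : v ∈ VV ρ π (S : Subgroup G) P p) : v * v = 1 := by
  refine Q.faith _ fun m => ?_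
  obtain ⟨h1, h2⟩ := D.VV_prop Q hv
  have h3 := h2 _ (h1 m)
  rw [_root_.smul_add] at h3
  rw [mul_smul]
  have h4 := congrArg (fun t => t + v • m) h3
  simp only [add_assoc] at h4
  rw [D.two_M Q, add_zero, add_comm m (v • m), ← add_assoc, D.two_M Q, zero_add] at h4
  exact h4

/-- a line over `p` moving `r` -/
theorem line_of_mv {p r : AddSubgroup M} (h : Mv (VV ρ π (S : Subgroup G) P) p r) :
    ∃ k ∈ H, img π (MulAut.conj k • zc (S : Subgroup G)) = p ∧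
      ∃ a ∈ MulAut.conj k • zl (S : Subgroup G) P, ∃ ha : a ∈ H, ∃ x ∈ r, ρ ⟨a, ha⟩ • x ≠ x := by
  by_contra hcon
  push Not at hcon
  obtain ⟨v, hv, x, hx, hne⟩ := h
  let L : Subgroup Γ :=
    { carrier := {v | ∀ x ∈ r, v • x = x}
      mul_mem' := fun {a b} h1 h2 x hx => by rw [mul_smul, h2 x hx, h1 x hx]
      one_mem' := fun x _ => one_smul _ x
      inv_mem' := fun {a} h1 x hx => by rw [inv_smul_eq_iff, h1 x hx] }
  refine hne (D.VV_le (L := L) ?_ hv x hx)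
  intro k hk hp a ha haH x hx
  exact hcon k hk hp a ha haH x hx

/-- lines `V^h`, `V^k` moving each other's points are opposite -/
theorem opp_of_mv {h k a b x y : G} (hh : h ∈ H) (hk : k ∈ H)
    (ha : a ∈ MulAut.conj h • zl (S : Subgroup G) P) (hx : x ∈ MulAut.conj k • zc (S : Subgroup G)) (h1 : cm a x ≠ 1)
    (hb : b ∈ MulAut.conj k • zl (S : Subgroup G) P) (hy : y ∈ MulAut.conj h • zc (S : Subgroup G)) (h2 : cm b y ≠ 1) :
    Opp (S : Subgroup G) P h k := by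
  by_contra ho
  rcases D.pair hh hk ho with h3 | h3
  · exact h2 (cm_eq_one.2 (D.Y_comm hb (h3 hy)))
  · exact h1 (cm_eq_one.2 (D.Y_comm ha (h3 hx)))

omit Q in
/-- **(3)(b)**, group form. -/
theorem bij_group {k w x y : G} (hk : k ∈ H)
    (hw : w ∈ NN (S : Subgroup G) P H) (hw2 : IsPGroup 2 (zpowers w))
    (hx : x ∈ MulAut.conj k • zc (S : Subgroup G)) (hxF : x ∉ Fc (S : Subgroup G) H)
    (hwx : cm w x ∈ Rr (S : Subgroup G) P H) (hy : y ∈ MulAut.conj k • zc (S : Subgroup G))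
    (hwy : cm w y ∉ MulAut.conj k • Yy (S : Subgroup G) P H) : False := by
  have : Fact (Nat.Prime 2) := ⟨Nat.prime_two⟩
  have hwH := D.NN_le_H hw
  have hxU := D.conjZ_le hk hx
  have hyU := D.conjZ_le hk hy
  have hNR : ∀ {n r : G}, n ∈ NN (S : Subgroup G) P H → r ∈ Rr (S : Subgroup G) P H → n * r = r * n :=
    fun hn hr => mem_centralizer_iff.1 (mem_inf.1 hr).2 _ hn
  set L : Subgroup G := NN (S : Subgroup G) P H ⊓ centralizer ({x} : Set G) with hL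
  -- `V^k ≤ O₂(C_N(x))`
  have hB : MulAut.conj k • zl (S : Subgroup G) P ≤ o2 L := by
    have h1 := D.min_o2 hk hx hxF
    have h2 : o2 (H ⊓ centralizer ({x} : Set G)) ⊓ NN (S : Subgroup G) P H ≤ o2 L := by
      refine le_o2 (le_inf inf_le_right (inf_le_left.trans ?_)) ((o2_isPGroup _).to_le inf_le_left) ?_
      · exact (Cfsg.Agent.MinSimple.VModule.o2_le _).trans inf_le_right
      · intro g hg
        have h5 := le_normalizer_o2 (H ⊓ centralizer ({x} : Set G))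
          (show g ∈ H ⊓ centralizer ({x} : Set G) from ⟨D.NN_le_H (mem_inf.1 hg).1, (mem_inf.1 hg).2⟩)
        rw [mem_normalizer_iff] at h5 ⊢
        intro t
        rw [mem_inf, mem_inf, h5 t, mem_normalizer_iff.mp (Subgroup.le_normalizer (mem_inf.1 hg).1) t]
    exact (le_inf h1 (conj_le_NN hk)).trans h2
  -- `w` normalises `C_N(x)`
  have hwL : w ∈ normalizer (L : Set G) := by
    have key : ∀ u : G, u ∈ NN (S : Subgroup G) P H → (∃ r ∈ Rr (S : Subgroup G) P H, u⁻¹ * x * u = r * x) →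
        ∀ g ∈ L, u * g * u⁻¹ ∈ L := by
      rintro u hu ⟨r, hr, h1⟩ g hg
      obtain ⟨hg1, hg2⟩ := mem_inf.1 hg
      refine mem_inf.2 ⟨mul_mem (mul_mem hu hg1) (inv_mem hu), ?_⟩
      rw [mem_centralizer_singleton_iff] at hg2 ⊢
      have h2 : g * (r * x) = (r * x) * g := by
        calc g * (r * x) = (g * r) * x := by group
          _ = (r * g) * x := by rw [hNR hg1 hr]
          _ = r * (g * x) := by group
          _ = (r * x) * g := by rw [hg2]; group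
      calc u * g * u⁻¹ * x = u * (g * (u⁻¹ * x * u)) * u⁻¹ := by group
        _ = u * (g * (r * x)) * u⁻¹ := by rw [h1]
        _ = u * ((r * x) * g) * u⁻¹ := by rw [h2]
        _ = u * ((u⁻¹ * x * u) * g) * u⁻¹ := by rw [h1]
        _ = x * (u * g * u⁻¹) := by group
    have h3 : w * x * w⁻¹ = cm w x * x := (cm_mul w x).symm
    have h4 : w⁻¹ * x * w = (w⁻¹ * (cm w x)⁻¹ * w) * x := by
      have h5 : x = (cm w x)⁻¹ * (w * x * w⁻¹) := by rw [h3]; group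
      calc w⁻¹ * x * w = w⁻¹ * ((cm w x)⁻¹ * (w * x * w⁻¹)) * w := by rw [← h5]
        _ = (w⁻¹ * (cm w x)⁻¹ * w) * x := by group
    have h6 : w⁻¹ * (cm w x)⁻¹ * w ∈ Rr (S : Subgroup G) P H := by
      have h7 := conj_mem_of_mem (D.HR (inv_mem hwH)) (inv_mem hwx)
      rwa [inv_inv] at h7
    rw [mem_normalizer_iff]
    intro g
    constructor
    · exact key w hw ⟨_, h6, h4⟩ g
    · intro hg
      have h7 := key w⁻¹ (inv_mem hw) ⟨_, hwx, by rw [inv_inv]; exact h3⟩ _ hg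
      have e1 : w⁻¹ * (w * g * w⁻¹) * w⁻¹⁻¹ = g := by group
      rwa [e1] at h7
  have hwO : zpowers w ≤ normalizer (o2 L : Set G) := by
    rw [zpowers_le]
    exact Cfsg.Agent.Omega.normalizer_le_normalizer_o2' _ hwL
  set X : Subgroup G := zpowers w ⊔ o2 L with hX
  have hXp : IsPGroup 2 X := IsPGroup.to_sup_of_normal_right' hw2 (o2_isPGroup _) hwO
  have hXN : X ≤ NN (S : Subgroup G) P H :=
    sup_le (by rw [zpowers_le]; exact hw) ((Cfsg.Agent.MinSimple.VModule.o2_le _).trans inf_le_left)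
  have hXH : X ≤ H := hXN.trans D.NN_le_H
  have hwX : w ∈ X := (le_sup_left : _ ≤ X) (mem_zpowers w)
  have hBX : MulAut.conj k • zl (S : Subgroup G) P ≤ X := hB.trans le_sup_right
  set T : Subgroup G := X ⊔ zl (S : Subgroup G) H with hT
  have hTp : IsPGroup 2 T := IsPGroup.to_sup_of_normal_right' hXp (S.isPGroup'.to_le D.US) (hXH.trans D.HU)
  have hnil : Group.IsNilpotent T := IsPGroup.isNilpotent hTp
  obtain ⟨n, hn⟩ := (Subgroup.isNilpotent_iff_lowerCentralSeries T).mp hnil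
  have hXT : X ≤ T := le_sup_left
  have hUT : zl (S : Subgroup G) H ≤ T := le_sup_right
  have hcU : cm w y ∈ zl (S : Subgroup G) H := by
    have e1 : cm w y = (w * y * w⁻¹) * y⁻¹ := by rw [cm_def]
    rw [e1]
    exact mul_mem (conj_mem_of_mem (D.HU hwH) hyU) (inv_mem hyU)
  obtain ⟨b, hb, hf⟩ := D.exists_cm hk hcU hwy hy
  have hfR : cm b (cm w y) * y ∈ Rr (S : Subgroup G) P H := by
    rw [← D.R_inf_Z] at hf
    exact (mem_inf.mp hf).1
  have hbcU : cm b (cm w y) ∈ zl (S : Subgroup G) H := by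
    have e1 : cm b (cm w y) = (b * (cm w y) * b⁻¹) * (cm w y)⁻¹ := by rw [cm_def]
    rw [e1]
    exact mul_mem (conj_mem_of_mem (D.HU (hXH (hBX hb))) hcU) (inv_mem hcU)
  have hcomm : ∀ {m : ℕ} {c z : G}, c ∈ X → z ∈ T.lowerCentralSeries m → cm c z ∈ T.lowerCentralSeries (m + 1) := by
    intro m c z hc hz
    change _ ∈ ⁅T.lowerCentralSeries m, T⁆
    have h3 : cm c z = ⁅z, c⁆⁻¹ := by
      rw [commutatorElement_inv]
      rfl
    rw [h3]
    exact inv_mem (commutator_mem_commutator hz (hXT hc))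
  have key : ∀ m : ℕ, ∃ r ∈ Rr (S : Subgroup G) P H, y * r ∈ T.lowerCentralSeries m := by
    intro m
    induction m with
    | zero => exact ⟨1, one_mem _, by rw [mul_one]; exact hUT hyU⟩
    | succ m ih =>
      obtain ⟨r, hr, h1⟩ := ih
      refine ⟨cm b (cm w y) * y, hfR, ?_⟩
      have h2 : y * (cm b (cm w y) * y) = cm b (cm w y) := by
        rw [D.commU hbcU hyU, ← mul_assoc, D.sqU hyU, one_mul]
      rw [h2]
      have h3 : cm w (y * r) = cm w y := by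
        have h4 := hNR hw hr
        rw [cm_def, cm_def, mul_inv_rev]
        have h5 : r * w⁻¹ = w⁻¹ * r := by
          calc r * w⁻¹ = w⁻¹ * (w * r) * w⁻¹ := by group
            _ = w⁻¹ * (r * w) * w⁻¹ := by rw [h4]
            _ = w⁻¹ * r := by group
        calc w * (y * r) * w⁻¹ * (r⁻¹ * y⁻¹) = w * y * (r * w⁻¹) * r⁻¹ * y⁻¹ := by group
          _ = w * y * (w⁻¹ * r) * r⁻¹ * y⁻¹ := by rw [h5]
          _ = w * y * w⁻¹ * y⁻¹ := by group
      have h6 := hcomm hwX h1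
      rw [h3] at h6
      have h7 := hcomm (hBX hb) h6
      exact Subgroup.lowerCentralSeries_antitone T (Nat.le_succ (m + 1)) h7
  obtain ⟨r, hr, h1⟩ := key n
  rw [hn, mem_bot] at h1
  have h2 : y ∈ Rr (S : Subgroup G) P H := by
    rw [mul_eq_one_iff_eq_inv.mp h1]
    exact inv_mem hr
  apply hwy
  have h3 : cm w y = 1 := cm_eq_one.2 (hNR hw h2)
  rw [h3]
  exact one_mem _

/-- `N` acts through the `VV s` -/
theorem rho_NN_mem {n : G} (hn : n ∈ NN (S : Subgroup G) P H) (hnH : n ∈ H) :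
    ρ ⟨n, hnH⟩ ∈ ⨆ s ∈ Pt π (S : Subgroup G) H, VV ρ π (S : Subgroup G) P s := by
  set L : Subgroup Γ := ⨆ s ∈ Pt π (S : Subgroup G) H, VV ρ π (S : Subgroup G) P s with hL
  have h1 : NN (S : Subgroup G) P H ≤ (L.comap ρ).map H.subtype := by
    refine NN_le fun k hk a ha => ?_
    have haH := D.conjV_le hk ha
    refine ⟨⟨a, haH⟩, ?_, rfl⟩
    have h2 : VV ρ π (S : Subgroup G) P (img π (MulAut.conj k • zc (S : Subgroup G))) ≤ L :=
      le_iSup₂_of_le _ (mem_Pt hk) le_rfl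
    exact h2 (mem_VV.2 ⟨a, haH, conj_le_VG hk ha, rfl⟩)
  obtain ⟨⟨n', hn'⟩, h3, h4⟩ := h1 hn
  have h5 : n' = n := h4
  subst h5
  exact h3

/-- (3)(b) -/
theorem bijM {p r : AddSubgroup M} (hr : r ∈ Pt π (S : Subgroup G) H)
    (hm : Mv (VV ρ π (S : Subgroup G) P) r p) {v : Γ} (hv : v ∈ VV ρ π (S : Subgroup G) P p) :
    (∀ x ∈ r, v • x = x) ∨ ∀ x ∈ r, v • x = x → x = 0 := by
  by_contra hcon
  push Not at hcon
  obtain ⟨⟨y₀, hy₀, hvy⟩, x₀, hx₀, hvx, hx0⟩ := hcon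
  -- a line `B = V^k` over `r` moving `p`
  obtain ⟨k, hk, rfl, b, hb, hbH, t₀, ht₀, hbt⟩ := D.line_of_mv Q hm
  -- a line `A = V^h` over `p` moving `r`
  obtain ⟨h, hh, hp, a, ha, haH, s₀, hs₀, has⟩ := D.line_of_mv Q ⟨v, hv, y₀, hy₀, hvy⟩
  obtain ⟨y, hy, rfl⟩ := (Q.mem_img (D.conjZ_le hk)).1 hy₀
  obtain ⟨x, hx, rfl⟩ := (Q.mem_img (D.conjZ_le hk)).1 hx₀
  obtain ⟨s, hs, rfl⟩ := (Q.mem_img (D.conjZ_le hk)).1 hs₀
  rw [← hp] at ht₀
  obtain ⟨t, ht, rfl⟩ := (Q.mem_img (D.conjZ_le hh)).1 ht₀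
  rw [Ne, D.smul_eq_iff Q hbH (D.conjZ_le hh ht)] at hbt
  rw [Ne, D.smul_eq_iff Q haH (D.conjZ_le hk hs)] at has
  have ho : Opp (S : Subgroup G) P h k :=
    D.opp_of_mv Q hh hk ha hs (fun h1 => has (h1 ▸ one_mem _)) hb ht (fun h1 => hbt (h1 ▸ one_mem _))
  -- a `2`-element
  obtain ⟨w₀, hw₀H, hw₀, rfl⟩ := mem_VV.1 hv
  obtain ⟨w, hwH, hw, hw2, hρ⟩ := exists_two ρ hw₀ hw₀H (D.VV_sq Q hv)
  rw [← hρ] at hvx hvy
  rw [D.smul_eq_iff Q hwH (D.conjZ_le hk hx)] at hvx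
  rw [Ne, D.smul_eq_iff Q hwH (D.conjZ_le hk hy)] at hvy
  refine D.bij_group hk (D.VG_le_NN p hw) hw2 hx (fun h1 => hx0 ((D.pi_eq_zero Q hk hx).2 h1)) hvx hy fun h1 => ?_
  -- `[w, y] ∈ Y^k` : it is in `Z^h R`
  have hcU := D.cm_mem_U Q hwH (D.conjZ_le hk hy)
  have h2 := (D.VV_prop Q hv).1 (π y)
  rw [← hρ, D.smul_add Q hwH (D.conjZ_le hk hy), ← hp, Q.pi_mem_iff (D.conjZ_le hh) hcU] at h2
  obtain ⟨z, hz, r, hr', h3⟩ := h2
  have h4 : z ∈ MulAut.conj k • Yy (S : Subgroup G) P H := by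
    have e1 : z = r⁻¹ * cm w y := by rw [h3]; group
    rw [e1]
    exact mul_mem (inv_mem (D.R_le_Y hk hr')) h1
  have h5 := D.inf_F hh hk ho hz h4
  rw [← D.R_inf_Z] at h5
  apply hvy
  rw [h3]
  exact mul_mem hr' (mem_inf.1 h5).1

/-- a line over `p` -/
theorem lineM {p r : AddSubgroup M} (hm : Mv (VV ρ π (S : Subgroup G) P) p r) :
    ∃ A ≤ VV ρ π (S : Subgroup G) P p, (∃ a ∈ A, ∃ x ∈ r, a • x ≠ x) ∧
      ∀ u : M, (∀ a ∈ A, a • u = u) ∨ ((∀ y ∈ p, ∃ a ∈ A, a • u = u + y) ∧ ∀ a ∈ A, a • u = u → a = 1) := by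
  obtain ⟨h, hh, rfl, a, ha, haH, s₀, hs₀, has⟩ := D.line_of_mv Q hm
  refine ⟨((MulAut.conj h • zl (S : Subgroup G) P).subgroupOf H).map ρ, ?_, ?_, ?_⟩
  · rintro _ ⟨⟨b, hbH⟩, hb, rfl⟩
    exact mem_VV.2 ⟨b, hbH, conj_le_VG hh hb, rfl⟩
  · exact ⟨_, ⟨⟨a, haH⟩, ha, rfl⟩, s₀, hs₀, has⟩
  · intro u₀
    obtain ⟨u, hu, rfl⟩ := Q.surj u₀
    by_cases huY : u ∈ MulAut.conj h • Yy (S : Subgroup G) P H
    · refine Or.inl ?_
      rintro _ ⟨⟨b, hbH⟩, hb, rfl⟩
      have hb' : b ∈ MulAut.conj h • zl (S : Subgroup G) P := hb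
      rw [D.smul_eq_iff Q hbH hu, cm_eq_one.2 (D.Y_comm hb' huY)]
      exact one_mem _
    · refine Or.inr ⟨fun y₀ hy₀ => ?_, ?_⟩
      · obtain ⟨z, hz, rfl⟩ := (Q.mem_img (D.conjZ_le hh)).1 hy₀
        obtain ⟨b, hb, h1⟩ := D.exists_cm hh hu huY hz
        have hbH := D.conjV_le hh hb
        refine ⟨ρ ⟨b, hbH⟩, ⟨⟨b, hbH⟩, hb, rfl⟩, ?_⟩
        have hcU := D.cm_mem_U Q hbH hu
        have hzU := D.conjZ_le hh hz
        have h2 : π (cm b u) = π z := by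
          have h3 : π (cm b u * z) = 0 := by
            rw [Q.ker _ (mul_mem hcU hzU)]
            rw [← D.R_inf_Z] at h1
            exact (mem_inf.1 h1).1
          rw [Q.mul _ hcU _ hzU] at h3
          have h4 := congrArg (fun t => t + π z) h3
          simp only [add_assoc] at h4
          rwa [D.two_M Q, add_zero, zero_add] at h4
        have h3 := D.smul_add Q hbH hu
        rw [h2] at h3
        have h4 := congrArg (fun t => t + π u) h3
        simp only [add_assoc] at h4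
        rwa [D.two_M Q, add_zero, add_comm (π z)] at h4
      · rintro _ ⟨⟨b, hbH⟩, hb, rfl⟩ h1
        rw [D.smul_eq_iff Q hbH hu] at h1
        have hbZ : b ∈ MulAut.conj h • zc (S : Subgroup G) := by
          by_contra h2
          exact D.not_R' hh hb h2 hu huY h1
        refine (Q.rho_eq_one hbH).2 fun x hx => ?_
        have h3 := D.commU (D.conjZ_le hh hbZ) hx
        rw [h3, mul_inv_cancel_right, mul_inv_cancel]
        exact one_mem _

/-- **(3)**: the points of `U / R`. -/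
theorem frame : Frame ρ.range (Pt π (S : Subgroup G) H) (VV ρ π (S : Subgroup G) P) where
  two := D.two_M Q
  nonempty := ⟨_, mem_Pt (one_mem H)⟩
  ne := by
    rintro _ ⟨h, hh, rfl⟩ h1
    obtain ⟨z, hz, hzF⟩ := D.Z_not_F hh
    apply hzF
    rw [← D.pi_eq_zero Q hh hz]
    have h2 := Md.pi_mem (π := π) hz
    rw [h1] at h2
    exact h2
  span := by
    rw [eq_top_iff]
    intro m _
    obtain ⟨u, hu, rfl⟩ := Q.surj m
    let A : Subgroup G :=
      { carrier := {x | x ∈ zl (S : Subgroup G) H ∧ π x ∈ sSup (Pt π (S : Subgroup G) H)}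
        mul_mem' := by
          rintro x y ⟨hx, h1⟩ ⟨hy, h2⟩
          refine ⟨mul_mem hx hy, ?_⟩
          rw [Q.mul x hx y hy]
          exact add_mem h1 h2
        one_mem' := ⟨one_mem _, by rw [Q.one]; exact zero_mem _⟩
        inv_mem' := by
          rintro x ⟨hx, h1⟩
          refine ⟨inv_mem hx, ?_⟩
          rw [Q.neg hx]
          exact neg_mem h1 }
    have h1 : zl (S : Subgroup G) H ≤ A := NoFF.Basic.V_le (Z := zc (S : Subgroup G)) fun k hk y hy =>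
      ⟨D.conjZ_le hk hy, (le_sSup (mem_Pt hk) : _ ≤ sSup (Pt π (S : Subgroup G) H)) (Md.pi_mem hy)⟩
    exact (h1 hu).2
  inv := by
    rintro _ ⟨⟨g, hg⟩, rfl⟩ _ ⟨h, hh, rfl⟩
    rw [D.smul_pt Q hg hh]
    exact mem_Pt (mul_mem hg hh)
  conj := by
    rintro _ ⟨⟨g, hg⟩, rfl⟩ _ ⟨h, hh, rfl⟩ v hv
    obtain ⟨w, hwH, hw, rfl⟩ := mem_VV.1 hv
    rw [D.smul_pt Q hg hh]
    have h1 : ρ ⟨g, hg⟩ * ρ ⟨w, hwH⟩ * (ρ ⟨g, hg⟩)⁻¹ = ρ ⟨g * w * g⁻¹, mul_mem (mul_mem hg hwH) (inv_mem hg)⟩ := by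
      rw [← map_mul, ← map_inv, ← map_mul]
      rfl
    rw [h1]
    refine mem_VV.2 ⟨_, _, ?_, rfl⟩
    have h2 : VG π (S : Subgroup G) P H (img π (MulAut.conj h • zc (S : Subgroup G))) ≤
        (VG π (S : Subgroup G) P H (img π (MulAut.conj (g * h) • zc (S : Subgroup G)))).comap
          (MulAut.conj g).toMonoidHom := by
      refine VG_le fun k hk hp a ha => ?_
      rw [mem_comap]
      change g * a * g⁻¹ ∈ _
      have h3 : img π (MulAut.conj (g * k) • zc (S : Subgroup G)) = img π (MulAut.conj (g * h) • zc (S : Subgroup G)) := by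
        rw [← D.smul_pt Q hg hk, ← D.smul_pt Q hg hh, hp]
      rw [← h3]
      refine conj_le_VG (mul_mem hg hk) ?_
      rw [mem_conj] at ha ⊢
      have e1 : (g * k)⁻¹ * (g * a * g⁻¹) * (g * k) = k⁻¹ * a * k := by group
      rwa [e1]
    exact h2 hw
  le := by
    intro p _ v hv
    obtain ⟨w, hwH, hw, rfl⟩ := mem_VV.1 hv
    exact ⟨_, rfl⟩
  trans := by
    rintro _ ⟨h, hh, rfl⟩ _ ⟨k, hk, rfl⟩
    obtain ⟨n, hn, h1⟩ := D.exists_conj hh
    obtain ⟨n', hn', h2⟩ := D.exists_conj hk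
    rw [h1, h2]
    have hnH := D.NN_le_H hn
    have hnH' := D.NN_le_H hn'
    refine ⟨ρ ⟨n' * n⁻¹, mul_mem hnH' (inv_mem hnH)⟩, D.rho_NN_mem Q (mul_mem hn' (inv_mem hn)) _, ?_⟩
    rw [D.smul_pt Q _ hnH]
    congr 3
    group
  faith := fun p _ v _ h => Q.faith v h
  fixed := by
    intro m h
    obtain ⟨u, hu, rfl⟩ := Q.surj m
    rw [Q.ker u hu]
    refine D.mem_R hu fun n hn => ?_
    have hnH := D.NN_le_H hn
    rw [← D.smul_eq_iff Q hnH hu]
    have h1 : (⨆ s ∈ Pt π (S : Subgroup G) H, VV ρ π (S : Subgroup G) P s) ≤ MulAction.stabilizer Γ (π u) :=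
      iSup₂_le fun s hs v hv => h s hs v hv
    exact h1 (D.rho_NN_mem Q hn hnH)
  map := fun p _ v hv m => (D.VV_prop Q hv).1 m
  triv := fun p _ v hv x hx => (D.VV_prop Q hv).2 x hx
  bij := fun p _ r hr hm v hv => D.bijM Q hr hm hv
  line := fun p _ r _ hm => D.lineM Q hm

end HypQ

end Cfsg.Agent.Omega.NOThreeL.RA
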